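import Cfsg.Agent.Lib.SuzType.Space
import Cfsg.Agent.Lib.ExtraspecialTwoIso
import Cfsg.Agent.Lib.LargeExtra.Types
import Cfsg.Agent.Lib.LargeExtra.Sections
import Cfsg.Agent.S5395
import Cfsg.Agent.Lib.HallJankoType.Setup

/-!
The setting of a group of Suzuki sporadic type: coordinates on the extraspecial group.
-/

set_option autoImplicit false
set_option linter.unusedSectionVars false

namespace CfsgLib.SuzType

open QuadraticMap CfsgLib.WittExtension CfsgLib.ExtraTwo CfsgLargeExtra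
open CfsgLargeExtra.Types
open CfsgLib.HallJankoType (mem_cent conj_fix_iff)

variable {G : Type*} [Group G]

/-- `π` gives coordinates on `Q/⟨z⟩`, and `M` the action of `C(z)`. -/
structure ST (z : G) (Q : Subgroup G) (π : G → V) (M : G → O6) : Prop where
  es : ES Q z
  card : Nat.card Q = 128
  π_mul : ∀ a ∈ Q, ∀ b ∈ Q, π (a * b) = π a + π b
  π_ker : ∀ a ∈ Q, π a = 0 → a = 1 ∨ a = z
  π_surj : ∀ v : V, ∃ a ∈ Q, π a = v
  sq : ∀ a ∈ Q, (a * a = 1 ↔ qf (π a) = 0)
  comm : ∀ a ∈ Q, ∀ b ∈ Q, (a * b = b * a ↔ polar qf (π a) (π b) = 0)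
  M_mul : ∀ a b : G, a * z = z * a → b * z = z * b → M (a * b) = M a * M b
  M_act : ∀ c : G, c * z = z * c → ∀ a ∈ Q, π (c * a * c⁻¹) = (M c).1 (π a)
  M_ker : ∀ c : G, c * z = z * c → (M c = 1 ↔ c ∈ Q)
  M_mem : ∀ c : G, c * z = z * c → M c ∈ Om
  M_surj : ∀ g ∈ Om, ∃ c : G, c * z = z * c ∧ M c = g
  fused : ∃ g : G, g * z * g⁻¹ ∈ Q ∧ g * z * g⁻¹ ≠ z

/-- Coordinates of one of the two models. -/
theorem model_coord (s : Bool) (m : ℕ) (x y : Grp m s) :
    (x * x = 1 ↔ bil s x.v x.v = 0) ∧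
      (x * y = y * x ↔ bil s (x.v + y.v) (x.v + y.v) - bil s x.v x.v - bil s y.v y.v = 0) := by
  have h2 : ∀ a : ZMod 2, a + a = 0 := by decide
  refine ⟨⟨fun h => ?_, fun h => ?_⟩, ?_⟩
  · have := congrArg Grp.c h
    rw [mul_c, h2, zero_add] at this
    exact this
  · refine Grp.ext' (vec_add_self _) ?_
    rw [mul_c, h2, zero_add]
    exact h
  · rw [commute_iff, bil_add_left, bil_add_right, bil_add_right]
    constructor
    · intro h
      rw [h]
      linear_combination h2 (bil s y.v x.v)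
    · intro h
      linear_combination h - h2 (bil s y.v x.v)

/-- Coordinates, given a quadratic space matching a model. -/
theorem exists_coord [Finite G] {z : G} {Q : Subgroup G} (h : ES Q z) {s : Bool} {m : ℕ}
    {W : Type*} [AddCommGroup W] [Module F2 W] (q : QuadraticForm F2 W)
    (L : (Fin (m + 1) → ZMod 2 × ZMod 2) ≃+ W) (hL : ∀ v, q (L v) = bil s v v)
    (hcard : Nat.card Q = 2 ^ (2 * (m + 1) + 1)) (hroot : rootCount ↥Q = rootCount (Grp m s)) :
    ∃ π : G → W, (∀ a ∈ Q, ∀ b ∈ Q, π (a * b) = π a + π b) ∧ (∀ a ∈ Q, π a = 0 → a = 1 ∨ a = z) ∧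
      (∀ v : W, ∃ a ∈ Q, π a = v) ∧ (∀ a ∈ Q, (a * a = 1 ↔ q (π a) = 0)) ∧
      (∀ a ∈ Q, ∀ b ∈ Q, (a * b = b * a ↔ polar q (π a) (π b) = 0)) ∧ π z = 0 := by
  classical
  obtain ⟨e, he⟩ := iso_of_invariants _ ↥Q ⟨z, h.mem⟩ (Grp m s) zG hcard card_eq h.toExt ext2 hroot
  have hπ : ∀ a (ha : a ∈ Q), (if h : a ∈ Q then L (e ⟨a, h⟩).v else 0) = L (e ⟨a, ha⟩).v := fun a ha =>
    dif_pos ha
  refine ⟨fun a => if h : a ∈ Q then L (e ⟨a, h⟩).v else 0, ?_, ?_, ?_, ?_, ?_, ?_⟩
  · intro a ha b hb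
    dsimp only
    rw [hπ a ha, hπ b hb, hπ _ (mul_mem ha hb), ← map_add, ← mul_v, ← map_mul]
    rfl
  · intro a ha h0
    dsimp only at h0
    rw [hπ a ha, AddEquiv.map_eq_zero_iff] at h0
    have hc : (e ⟨a, ha⟩).c = 0 ∨ (e ⟨a, ha⟩).c = 1 := F2_cases _
    rcases hc with hc | hc
    · left
      have : e ⟨a, ha⟩ = 1 := Grp.ext' h0 hc
      exact congrArg Subtype.val ((map_eq_one_iff e e.injective).mp this)
    · right
      have : e ⟨a, ha⟩ = e ⟨z, h.mem⟩ := by rw [he]; exact Grp.ext' h0 hc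
      exact congrArg Subtype.val (e.injective this)
  · intro v
    refine ⟨(e.symm ⟨L.symm v, 0⟩ : G), (e.symm ⟨L.symm v, 0⟩).2, ?_⟩
    dsimp only
    rw [hπ _ (e.symm ⟨L.symm v, 0⟩).2]
    simp
  · intro a ha
    dsimp only
    rw [hπ a ha, hL, ← (model_coord s m (e ⟨a, ha⟩) 1).1, ← map_mul, map_eq_one_iff e e.injective]
    simp [Subtype.ext_iff]
  · intro a ha b hb
    dsimp only
    rw [hπ a ha, hπ b hb, polar, ← map_add, hL, hL, hL, ← (model_coord s m (e ⟨a, ha⟩) (e ⟨b, hb⟩)).2, ← map_mul,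
      ← map_mul, e.injective.eq_iff]
    simp [Subtype.ext_iff]
  · dsimp only
    rw [hπ z h.mem, he]
    exact map_zero L

/-- Coordinates give an action. -/
theorem exists_action [Finite G] {z : G} {Q : Subgroup G} (h : ES Q z) (hQ : Cfsg.IsExtraspecial 2 Q)
    {W : Type*} [AddCommGroup W] [Module F2 W] (q : QuadraticForm F2 W) (π : G → W)
    (hmul : ∀ a ∈ Q, ∀ b ∈ Q, π (a * b) = π a + π b) (hker : ∀ a ∈ Q, π a = 0 → a = 1 ∨ a = z)
    (hsurj : ∀ v : W, ∃ a ∈ Q, π a = v) (hsq : ∀ a ∈ Q, (a * a = 1 ↔ q (π a) = 0)) (hπz : π z = 0) :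
    ∃ M : ↥(Subgroup.centralizer ({z} : Set G)) →* ↥(quadIso q),
      (∀ c : ↥(Subgroup.centralizer ({z} : Set G)), ∀ a ∈ Q, π ((c : G) * a * (c : G)⁻¹) = (M c).1 (π a)) ∧
      ∀ c : ↥(Subgroup.centralizer ({z} : Set G)), M c = 1 ↔ (c : G) ∈ Q := by
  classical
  choose r hrQ hr using hsurj
  have hone : π 1 = 0 := by
    have := hmul 1 (one_mem _) 1 (one_mem _)
    rwa [mul_one, left_eq_add] at this
  have hcong : ∀ c : G, c * z = z * c → ∀ a ∈ Q, ∀ b ∈ Q, π a = π b → π (c * a * c⁻¹) = π (c * b * c⁻¹) := by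
    intro c hc a ha b hb he
    have hab : π (a * b⁻¹) = 0 := by
      have h1 := hmul (a * b⁻¹) (mul_mem ha (inv_mem hb)) b hb
      rw [inv_mul_cancel_right, he, right_eq_add] at h1
      exact h1
    have hb' := h.nor c hc b hb
    rcases hker _ (mul_mem ha (inv_mem hb)) hab with e | e
    · rw [mul_inv_eq_one.mp e]
    · rw [mul_inv_eq_iff_eq_mul.mp e, show c * (z * b) * c⁻¹ = (c * z) * c⁻¹ * (c * b * c⁻¹) by group, hc,
        mul_inv_cancel_right, hmul z h.mem _ hb', hπz, zero_add]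
  have hact : ∀ c : ↥(Subgroup.centralizer ({z} : Set G)), ∀ a ∈ Q,
      π ((c : G) * r (π a) * (c : G)⁻¹) = π ((c : G) * a * (c : G)⁻¹) := fun c a ha =>
    hcong c (mem_cent.mp c.2) _ (hrQ _) a ha (hr _)
  let f : ↥(Subgroup.centralizer ({z} : Set G)) → W → W := fun c v => π ((c : G) * r v * (c : G)⁻¹)
  have fmul : ∀ c d v, f (c * d) v = f c (f d v) := by
    intro c d v
    show _ = π ((c : G) * r (π ((d : G) * r v * (d : G)⁻¹)) * (c : G)⁻¹)
    rw [hact c _ (h.nor _ (mem_cent.mp d.2) _ (hrQ v))]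
    show π ((c * d : G) * r v * (c * d : G)⁻¹) = _
    congr 1
    group
  have fone : ∀ v, f 1 v = v := fun v => by
    show π ((1 : G) * r v * (1 : G)⁻¹) = v
    rw [one_mul, inv_one, mul_one, hr]
  have fadd : ∀ c v w, f c (v + w) = f c v + f c w := by
    intro c v w
    have hc := mem_cent.mp c.2
    show π ((c : G) * r (v + w) * (c : G)⁻¹) = _
    rw [hcong c hc _ (hrQ _) (r v * r w) (mul_mem (hrQ _) (hrQ _)) (by rw [hr, hmul _ (hrQ _) _ (hrQ _), hr, hr]),
      ← hmul _ (h.nor _ hc _ (hrQ v)) _ (h.nor _ hc _ (hrQ w))]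
    congr 1
    group
  let E : ↥(Subgroup.centralizer ({z} : Set G)) → (W ≃ₗ[F2] W) := fun c =>
    { toFun := f c
      invFun := f c⁻¹
      map_add' := fadd c
      map_smul' := fun a v => by
        rcases F2_cases a with rfl | rfl
        · simp only [zero_smul, RingHom.id_apply]
          have := fadd c 0 0
          rwa [add_zero, left_eq_add] at this
        · simp
      left_inv := fun v => by rw [← fmul, inv_mul_cancel, fone]
      right_inv := fun v => by rw [← fmul, mul_inv_cancel, fone] }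
  have hE : ∀ c, E c ∈ quadIso q := by
    intro c v
    have hc := mem_cent.mp c.2
    show q (π ((c : G) * r v * (c : G)⁻¹)) = q v
    have key : (q (π ((c : G) * r v * (c : G)⁻¹)) = 0 ↔ q v = 0) := by
      rw [← hsq _ (h.nor _ hc _ (hrQ v))]
      conv_rhs => rw [← hr v, ← hsq _ (hrQ v)]
      rw [show (c : G) * r v * (c : G)⁻¹ * ((c : G) * r v * (c : G)⁻¹) = c * (r v * r v) * (c : G)⁻¹ by group,
        conj_eq_one_iff]
    rcases F2_cases (q v) with hv | hv
    · rw [hv]; exact key.mpr hv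
    · rcases F2_cases (q (π ((c : G) * r v * (c : G)⁻¹))) with hw | hw
      · rw [key.mp hw] at hv; exact absurd hv (by decide)
      · rw [hw, hv]
  refine ⟨MonoidHom.mk' (fun c => ⟨E c, hE c⟩) fun c d => Subtype.ext (LinearEquiv.ext (fmul c d)),
    fun c a ha => (hact c a ha).symm, fun c => ?_⟩
  constructor
  · intro h1
    have hc := mem_cent.mp c.2
    have hfix : ∀ a ∈ Q, π ((c : G) * a * (c : G)⁻¹) = π a := fun a ha => by
      rw [← hact c a ha]
      exact DFunLike.congr_fun (congrArg Subtype.val h1) (π a)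
    let φ : ↥Q ≃* ↥Q :=
      { toFun := fun a => ⟨(c : G) * a * (c : G)⁻¹, h.nor _ hc _ a.2⟩
        invFun := fun a => ⟨(c : G)⁻¹ * a * c, by
          have := h.nor (c : G)⁻¹ (Commute.inv_left hc) _ a.2
          rwa [inv_inv] at this⟩
        left_inv := fun a => Subtype.ext (by show (c : G)⁻¹ * ((c : G) * a * (c : G)⁻¹) * c = a; group)
        right_inv := fun a => Subtype.ext (by show (c : G) * ((c : G)⁻¹ * a * c) * (c : G)⁻¹ = a; group)
        map_mul' := fun a b => Subtype.ext (by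
          show (c : G) * (a * b) * (c : G)⁻¹ = (c : G) * a * (c : G)⁻¹ * ((c : G) * b * (c : G)⁻¹)
          group) }
    obtain ⟨g, hg⟩ := Cfsg.Agent.S5395.result hQ φ fun a => by
      rw [h.toExt.center_iff]
      have h2 : π ((φ a * a⁻¹ : ↥Q) : G) = 0 := by
        have h3 := hmul ((φ a * a⁻¹ : ↥Q) : G) (φ a * a⁻¹ : ↥Q).2 _ a.2
        rw [show ((φ a * a⁻¹ : ↥Q) : G) * a = (φ a : G) by simp,
          show ((φ a : ↥Q) : G) = (c : G) * a * (c : G)⁻¹ from rfl, hfix a a.2, right_eq_add] at h3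
        exact h3
      rcases hker _ (φ a * a⁻¹ : ↥Q).2 h2 with e | e
      · exact Or.inl (Subtype.ext e)
      · exact Or.inr (Subtype.ext e)
    have hcg : ∀ a ∈ Q, ((g : G)⁻¹ * c) * a = a * ((g : G)⁻¹ * c) := fun a ha => by
      have h4 : (c : G) * a * (c : G)⁻¹ = g * a * (g : G)⁻¹ := congrArg Subtype.val (hg ⟨a, ha⟩)
      calc (g : G)⁻¹ * c * a = (g : G)⁻¹ * ((c : G) * a * (c : G)⁻¹) * c := by group
        _ = a * ((g : G)⁻¹ * c) := by rw [h4]; group
    have hgc : (g : G)⁻¹ * c ∈ Q := by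
      rcases h.cen _ hcg with e | e <;> rw [e]
      · exact one_mem _
      · exact h.mem
    have := mul_mem g.2 hgc
    rwa [mul_inv_cancel_left] at this
  · intro hc
    refine Subtype.ext (LinearEquiv.ext fun v => ?_)
    show π ((c : G) * r v * (c : G)⁻¹) = v
    rcases h.conj_cases hc (hrQ v) with e | e
    · rw [e, hr]
    · rw [e, hmul _ (hrQ v) z h.mem, hπz, add_zero, hr]

/-- The splitting of the model of minus type. -/
def minusCoord : (Fin 3 → ZMod 2 × ZMod 2) ≃+ V where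
  toFun v := Sum.elim (Sum.elim (fun i => (v i.succ).1) fun i => (v i.succ).2) ![(v 0).1, (v 0).2]
  invFun w := Fin.cons (w (.inr 0), w (.inr 1)) fun i => (w (.inl (.inl i)), w (.inl (.inr i)))
  left_inv v := funext fun i => by cases i using Fin.cases <;> simp
  right_inv w := funext fun i => by
    rcases i with (i | i) | i
    · simp
    · simp
    · fin_cases i <;> simp
  map_add' u v := funext fun i => by
    rcases i with (i | i) | i
    · simp
    · simp
    · fin_cases i <;> simp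

/-- The model of plus type. -/
def plusCoord : (Fin 3 → ZMod 2 × ZMod 2) ≃+ (Fin 3 ⊕ Fin 3 → F2) where
  toFun v := Sum.elim (fun i => (v i).1) fun i => (v i).2
  invFun w := fun i => (w (.inl i), w (.inr i))
  left_inv v := rfl
  right_inv w := funext fun i => by rcases i with i | i <;> rfl
  map_add' u v := funext fun i => by rcases i with i | i <;> rfl

theorem minusCoord_form : ∀ v : Fin 3 → ZMod 2 × ZMod 2, Cfsg.quadFormMinus 2 F2 1 1 (minusCoord v) = bil true v v := by
  decide +kernel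

theorem plusCoord_form : ∀ v : Fin 3 → ZMod 2 × ZMod 2, Cfsg.quadFormPlus 3 F2 (plusCoord v) = bil false v v := by
  decide +kernel

/-- The form of plus type. -/
def qp : QuadraticForm F2 (Fin 3 ⊕ Fin 3 → F2) :=
  QuadraticMap.ofPolar (Cfsg.quadFormPlus 3 F2)
    (fun a x => by
      rcases F2_cases a with rfl | rfl
      · simp [Cfsg.quadFormPlus]
      · simp)
    (fun x x' y => by simp only [CfsgLib.FiniteForms.polar_plus, add_dotProduct])
    (fun a x y => by simp only [CfsgLib.FiniteForms.polar_plus, smul_dotProduct, smul_eq_mul])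

/-- The setting of the statements gives the data. -/
theorem exists_ST [Finite G] (z : G) (hz : orderOf z = 2) (Q : Subgroup (Subgroup.centralizer ({z} : Set G))) [Q.Normal]
    (hF : Cfsg.generalizedFittingSubgroup (Subgroup.centralizer ({z} : Set G)) = Q)
    (hQ : Cfsg.IsExtraspecial 2 Q) (hcard : Nat.card Q = 2 ^ 7)
    (e : (Subgroup.centralizer ({z} : Set G)) ⧸ Q ≃* Cfsg.Omega (ZMod 2) (Cfsg.quadFormMinus 2 (ZMod 2) 1 1))
    (hnwc : ∃ g : G, (∃ hq : g * z * g⁻¹ ∈ Subgroup.centralizer ({z} : Set G),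
      (⟨g * z * g⁻¹, hq⟩ : Subgroup.centralizer ({z} : Set G)) ∈ Q) ∧ g * z * g⁻¹ ≠ z) :
    ∃ (π : G → V) (M : G → O6), ST z (Q.map (Subgroup.subtype _)) π M := by
  classical
  set Q' := Q.map (Subgroup.subtype (Subgroup.centralizer ({z} : Set G))) with hQ'def
  set E : ↥Q ≃* ↥Q' := Subgroup.equivMapOfInjective Q _ (Subgroup.subtype_injective (Subgroup.centralizer ({z} : Set G)))
  have hc : ∀ g, g ∈ Subgroup.center ↥Q ↔ E g ∈ Subgroup.center ↥Q' := fun g => by
    simp only [Subgroup.mem_center_iff, E.surjective.forall, ← map_mul, E.injective.eq_iff]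
  obtain ⟨w, hw⟩ := ofExtraspecial hQ
  obtain ⟨a, b, hab⟩ : ∃ a b : ↥Q', a * b ≠ b * a := by
    by_contra hall
    push Not at hall
    have htop : Subgroup.center ↥Q = ⊤ := eq_top_iff.mpr fun g _ =>
      (hc g).mpr (Subgroup.mem_center_iff.mpr fun k => hall _ _)
    have := hw.card_center
    rw [htop, Subgroup.card_top, hcard] at this
    norm_num at this
  have hQ'e : Cfsg.IsExtraspecial 2 ↥Q' := by
    refine isExtraspecial_of_ext2 (z := E w) (a := a) (b := b)
      ⟨fun e => hw.ne ((EmbeddingLike.map_eq_one_iff).mp e), fun g => ?_, fun g => ?_⟩ hab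
    · obtain ⟨g, rfl⟩ := E.surjective g
      rw [← hc, hw.center_iff, EmbeddingLike.map_eq_one_iff, E.injective.eq_iff]
    · obtain ⟨g, rfl⟩ := E.surjective g
      rw [← map_mul, EmbeddingLike.map_eq_one_iff, E.injective.eq_iff]
      exact hw.sq g
  have h : ES Q' z := (ES.of_fitting z hz rfl Q' (by rw [hF]) hQ'e).1
  have hcard' : Nat.card Q' = 2 ^ (2 * (2 + 1) + 1) := by
    rw [hQ'def, Subgroup.card_map_of_injective (Subgroup.subtype_injective _), hcard]
  have hqc : Nat.card ((Subgroup.centralizer ({z} : Set G)) ⧸ Q) = 25920 :=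
    (Nat.card_congr e.toEquiv).trans card_Omega
  have hQmem : ∀ c : ↥(Subgroup.centralizer ({z} : Set G)), (c : G) ∈ Q' ↔ c ∈ Q := fun c =>
    ⟨fun ⟨d, hd, e⟩ => by rwa [show d = c from Subtype.ext e] at hd, fun hc => ⟨c, hc, rfl⟩⟩
  have himg : ∀ {W : Type} [AddCommGroup W] [Module F2 W] (q : QuadraticForm F2 W)
      (M : ↥(Subgroup.centralizer ({z} : Set G)) →* ↥(quadIso q)), (∀ c, M c = 1 ↔ (c : G) ∈ Q') →
      Nat.card M.range = 25920 := by
    intro W _ _ q M hM
    have hk : M.ker = Q := SetLike.ext fun c => MonoidHom.mem_ker.trans ((hM c).trans (hQmem c))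
    rw [← Subgroup.index_ker, hk, Subgroup.index_eq_card, hqc]
  have hroot : rootCount ↥Q' = rootCount (Grp 2 true) ∨ rootCount ↥Q' = rootCount (Grp 2 false) := by
    obtain ⟨n, hn, hcases⟩ := invariants _ ↥Q' ⟨z, h.mem⟩ rfl h.toExt
    rw [hcard'] at hn
    have hn3 : n = 3 := by
      have := Nat.pow_right_injective (le_refl 2) hn
      omega
    subst hn3
    have ht := rootCount_eq (m := 2) (s := true)
    have hf := rootCount_eq (m := 2) (s := false)
    norm_num at ht hf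
    rcases hcases with ⟨h1, -⟩ | ⟨-, h1, -⟩
    · right
      norm_num at h1
      omega
    · left
      norm_num at h1
      omega
  haveI : Finite O6 := finite_O6
  rcases hroot with hroot | hroot
  · obtain ⟨π, h1, h2, h3, h4, h5, h6⟩ := exists_coord h qf minusCoord minusCoord_form hcard' hroot
    obtain ⟨M, hM1, hM2⟩ := exists_action h hQ'e qf π h1 h2 h3 h4 h6
    have hR : M.range = Om := by
      have hr := himg qf M hM2
      have h5' : M.range.index = 2 := by
        have := M.range.card_mul_index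
        rw [hr, card_O6] at this
        omega
      haveI := Subgroup.normal_of_index_eq_two h5'
      symm
      refine Subgroup.eq_of_le_of_card_ge ?_ (by rw [hr, card_Om])
      rw [← Subgroup.Normal.quotient_commutative_iff_commutator_le]
      haveI : Fact (Nat.Prime 2) := ⟨Nat.prime_two⟩
      haveI : IsCyclic (O6 ⧸ M.range) := isCyclic_of_prime_card (p := 2) (by rw [← Subgroup.index_eq_card, h5'])
      exact ⟨⟨fun a b => IsCyclic.commGroup.mul_comm a b⟩⟩
    refine ⟨π, fun g => if hg : g * z = z * g then M ⟨g, mem_cent.mpr hg⟩ else 1, h, hcard', h1, h2, h3, h4, h5,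
      ?_, ?_, ?_, ?_, ?_, ?_⟩
    · intro a b ha hb
      rw [dif_pos ha, dif_pos hb, dif_pos (show a * b * z = z * (a * b) from Commute.mul_left ha hb)]
      exact map_mul M ⟨a, mem_cent.mpr ha⟩ ⟨b, mem_cent.mpr hb⟩
    · intro c hc a ha
      rw [dif_pos hc]
      exact hM1 ⟨c, mem_cent.mpr hc⟩ a ha
    · intro c hc
      rw [dif_pos hc]
      exact hM2 ⟨c, mem_cent.mpr hc⟩
    · intro c hc
      rw [dif_pos hc, ← hR]
      exact ⟨_, rfl⟩
    · intro g hg
      obtain ⟨⟨c, hc⟩, rfl⟩ : g ∈ M.range := hR.symm ▸ hg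
      exact ⟨c, mem_cent.mp hc, dif_pos (mem_cent.mp hc)⟩
    · obtain ⟨g, ⟨hq, hmem⟩, hne⟩ := hnwc
      exact ⟨g, ⟨_, hmem, rfl⟩, hne⟩
  · exfalso
    obtain ⟨π, h1, h2, h3, h4, -, h6⟩ := exists_coord h qp plusCoord plusCoord_form hcard' hroot
    obtain ⟨M, hM1, hM2⟩ := exists_action h hQ'e qp π h1 h2 h3 h4 h6
    have hr := himg qp M hM2
    have hp : Nat.card ↥(quadIso qp) = 40320 := by
      rw [← CfsgLib.OrthOrder.card_isometryGroup qp (Cfsg.quadFormPlus 3 F2) (LinearEquiv.refl F2 _) fun w => rfl,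
        card_O6plus]
    have hdvd := Subgroup.card_subgroup_dvd_card M.range
    rw [hr, hp] at hdvd
    norm_num at hdvd

end CfsgLib.SuzType
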