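import Cfsg.Agent.Lib.SuzType.Invol

/-!
Groups of Suzuki sporadic type: the two kinds of involutions are not conjugate.
-/

set_option autoImplicit false
set_option linter.unusedSectionVars false
set_option maxRecDepth 20000
set_option maxHeartbeats 1600000

namespace CfsgLib.SuzType

open QuadraticMap CfsgLargeExtra
open CfsgLib.HallJankoType (mem_cent conj_fix_iff)

universe u

variable {G : Type u} [Group G] [Finite G] {z x s : G} {Q Q' : Subgroup G} {π π' : G → V} {M M' : G → O6}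

/-- A noncentral involution of `Q` gives a pair. -/
theorem ST.pr_of (h : ST z Q π M) {p : G} (hp : p ∈ h.S) :
    ∃ k : G, k * z * k⁻¹ = p ∧ Pr z p Q (CfsgLargeExtra.cj k Q) π (fun a => π (k⁻¹ * a * k)) M
      (fun a => M (k⁻¹ * a * k)) := by
  obtain ⟨k, hk⟩ := isConj_iff.mp (h.isConj_S hp)
  subst hk
  exact ⟨k, rfl, h, h.conjBy k, hp.1, h.symm_mem hp.1, fun e => hp.2.2 (by rw [e, h.π_z])⟩

/-- The vectors orthogonal to the configuration. -/
theorem mem_span_of_perp {p α δ v : V} (hq : qf p = 0) (hp : p ≠ 0) (qa : qf α = 1) (qb : qf δ = 1) (hpa : bf p α = 0)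
    (hpb : bf p δ = 0) (hab : bf α δ = 1) (hv : bf p v = 0)
    (h : ∀ w, bf p w = 0 → bf α w = 0 → bf δ w = 0 → bf v w = 0) :
    v = 0 ∨ v = p ∨ v = α ∨ v = α + p ∨ v = δ ∨ v = δ + p ∨ v = α + δ ∨ v = α + δ + p := by
  obtain ⟨g, -, g0, g1, g2⟩ := std_pair hq hp qa qb hpa hpb hab
  have := double_perp (g.1 v) (by rw [← g0, bf_map, hv]) fun w h1 h2 h3 => by
    obtain ⟨w, rfl⟩ := g.1.surjective w
    rw [← g0, bf_map] at h1
    rw [← g1, bf_map] at h2
    rw [← g2, bf_map] at h3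
    rw [bf_map, h w h1 h2 h3]
  simp only [← g0, ← g1, ← g2, ← map_add, g.1.map_eq_zero_iff, g.1.injective.eq_iff] at this
  exact this

namespace Pr

variable (P : Pr z x Q Q' π π' M M')
include P

/-- Involutions of the part at `x` move vectors in singular directions only. -/
theorem sing_B (hs : s ∈ Q) (hsp : bf (π s) (π x) = 1) {b : G} (hb : b ∈ Q') (hbz : b * z = z * b) (hbb : b * b = 1)
    (v : V) : qf ((M b).1 v + v) = 0 := by
  have key : ∀ w, bf w (π x) = 0 → Eqp (π x) 0 ((M b).1 w + w) := fun w hw => by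
    have := (P.perp_cases hb hbz hw).add (Eqp.refl (π x) w)
    rwa [V_add_self] at this
  rcases F2_cases (bf v (π x)) with hv | hv
  · rw [(key v hv).qf_eq P.p_q (bf_zero_left _), QuadraticMap.map_zero]
  · have hw : bf (v + π s) (π x) = 0 := by rw [bf_add_left, hv, hsp]; decide
    have e := (key _ hw).add (Eqp.refl (π x) (P.dl s b))
    rw [zero_add, P.dl_eq hs hbz, map_add,
      show (M b).1 v + (M b).1 (π s) + (v + π s) + (π s + (M b).1 (π s))
        = (M b).1 v + v + (π s + π s) + ((M b).1 (π s) + (M b).1 (π s)) by abel,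
      V_add_self, V_add_self, add_zero, add_zero, ← P.dl_eq hs hbz] at e
    rw [e.qf_eq P.p_q (P.dl_perp hs hb hbz)]
    exact (P.sq_B hs hsp hb hbz).mp hbb

theorem M_typ (hs : s ∈ Q) {a b : G} (ha : a ∈ Q) (hbz : b * z = z * b) : M (a * b) = M b := by
  rw [P.h.M_mul _ _ (P.h.es.comm a ha) hbz, P.h.M_Q ha, one_mul]

theorem typ_props (hs : s ∈ Q) (hsp : bf (π s) (π x) = 1) {t : G} (ht : P.Typ s t) :
    t * z = z * t ∧ t * x = x * t ∧ t * t = 1 ∧ t ∉ Q ∧ qf ((M t).1 (π s) + π s) = 1 := by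
  obtain ⟨a, b, ha, hax, hb, hbz, rfl, qa, qb, hab⟩ := ht
  have hmove : qf ((M (a * b)).1 (π s) + π s) = 1 := by
    rw [P.M_typ hs ha hbz, add_comm, ← P.dl_eq hs hbz, qb]
  refine ⟨Commute.mul_left (P.h.es.comm a ha) hbz, Commute.mul_left hax (P.h'.es.comm b hb), ?_, fun hQ => ?_, hmove⟩
  · rw [P.sq_ab ha hax hb hbz, P.comm_eq hs hsp ha hax hb hbz, if_neg (by rw [hab]; exact one_ne_zero)]
    rw [(P.h.es.sq a ha).resolve_left fun e => by rw [(P.h.sq a ha).mp e] at qa; exact zero_ne_one qa,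
      (P.h'.es.sq b hb).resolve_left fun e => by rw [(P.sq_B hs hsp hb hbz).mp e] at qb; exact zero_ne_one qb,
      mul_assoc z x z, ← P.zx, ← mul_assoc, P.h.zz, one_mul, P.xx]
  · rw [P.h.M_Q hQ] at hmove
    rw [show ((1 : O6).1 (π s)) = π s from rfl, V_add_self, QuadraticMap.map_zero] at hmove
    exact zero_ne_one hmove

/-- A conjugate of `z` of the second type would meet `Q` trivially with its extraspecial group. -/
theorem inter_trivial (hs : s ∈ Q) (hsp : bf (π s) (π x) = 1) {t g : G} (ht : P.Typ s t) (hg : g * z * g⁻¹ = t)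
    {v : G} (hv : v ∈ Q) (hv' : v ∈ CfsgLargeExtra.cj g Q) : v = 1 := by
  obtain ⟨htz, -, htt, htQ, hmove⟩ := P.typ_props hs hsp ht
  have hE := P.h.conjBy g
  by_contra h1
  have hvv : v * v = 1 := by
    rcases P.h.es.sq v hv with e | e
    · exact e
    · rcases hE.es.sq v hv' with e' | e'
      · exact e'
      · exact absurd (e'.symm.trans e) (fun e'' => htQ (by rw [← hg, e'']; exact P.h.es.mem))
  have hvz : v ≠ z := fun e => htQ (by rw [← hg]; exact (P.h.symm_iff (g := g)).mpr (e ▸ hv'))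
  obtain ⟨k, hk, P1⟩ := P.h.pr_of (P.h.mem_S_of hv hvv h1 hvz)
  have htk : t ∈ CfsgLargeExtra.cj k Q := by
    have e : k * g⁻¹ * (g * z * g⁻¹) * (k * g⁻¹)⁻¹ = v := by rw [← hk]; group
    have := hE.symm_mem (g := k * g⁻¹) (by rw [e]; exact hv')
    rw [CfsgLargeExtra.cj_cj, inv_mul_cancel_right, hg] at this
    exact this
  obtain ⟨s1, hs1, hsp1, -⟩ := P1.exists_s
  rw [P1.sing_B hs1 hsp1 htk htz htt] at hmove
  exact zero_ne_one hmove

theorem card_cent {y : G} (hs : s ∈ Q) (hsp : bf (π s) (π x) = 1) (hyz : y * z = z * y) (hyx : y * x = x * y)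
    (hperp : ∀ v, bf v (π x) = 0 → Eqp (π x) v ((M y).1 v)) :
    16 ≤ Nat.card {q : G // q ∈ Q ∧ q * y = y * q} := by
  classical
  obtain ⟨a, b, ha, hax, hb, hbz, rfl⟩ := P.decompose hs hsp hyz hyx hperp
  have hval : ∀ q : ↥(Q ⊓ Subgroup.centralizer ({x} : Set G) : Subgroup G),
      (q : G) * (a * b) * (q : G)⁻¹ * (a * b)⁻¹ ∈ P.U := fun q => by
    have hq : (q : G) ∈ Q := q.2.1
    have hqx : (q : G) * x = x * q := mem_cent.mp q.2.2
    have h1 : (q : G) * a * (q : G)⁻¹ * a⁻¹ ∈ P.U := by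
      rcases P.h.es.conj_cases hq ha with e | e <;> rw [e]
      · rw [mul_inv_cancel]; exact one_mem _
      · rw [P.h.es.comm a ha, mul_inv_cancel_right]; exact P.zU
    rw [show (q : G) * (a * b) * (q : G)⁻¹ * (a * b)⁻¹ =
      ((q : G) * a * (q : G)⁻¹ * a⁻¹) * (a * ((q : G) * b * (q : G)⁻¹ * b⁻¹) * a⁻¹) by group]
    refine mul_mem h1 ?_
    rw [conj_fix_iff.mpr (P.U_central (P.comm_mem hq hqx hb hbz) (P.h.es.comm a ha) hax).symm]
    exact P.comm_mem hq hqx hb hbz
  let χ : ↥(Q ⊓ Subgroup.centralizer ({x} : Set G) : Subgroup G) →* ↥P.U :=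
    MonoidHom.mk' (fun q => ⟨_, hval q⟩) fun q q' => Subtype.ext (by
      show ((q : G) * q') * (a * b) * ((q : G) * q')⁻¹ * (a * b)⁻¹ =
        (q : G) * (a * b) * (q : G)⁻¹ * (a * b)⁻¹ * ((q' : G) * (a * b) * (q' : G)⁻¹ * (a * b)⁻¹)
      have hc := P.U_central (hval q') (P.h.es.comm _ q.2.1) (mem_cent.mp q.2.2)
      have hc' := P.U_central (hval q') hyz hyx
      calc ((q : G) * q') * (a * b) * ((q : G) * q')⁻¹ * (a * b)⁻¹
          = (q : G) * ((q' : G) * (a * b) * (q' : G)⁻¹ * (a * b)⁻¹ * (a * b)) * (q : G)⁻¹ * (a * b)⁻¹ := by group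
        _ = (q : G) * ((a * b) * ((q' : G) * (a * b) * (q' : G)⁻¹ * (a * b)⁻¹)) * (q : G)⁻¹ * (a * b)⁻¹ := by rw [hc']
        _ = (q : G) * (a * b) * (((q' : G) * (a * b) * (q' : G)⁻¹ * (a * b)⁻¹) * (q : G)⁻¹) * (a * b)⁻¹ := by group
        _ = (q : G) * (a * b) * ((q : G)⁻¹ * ((q' : G) * (a * b) * (q' : G)⁻¹ * (a * b)⁻¹)) * (a * b)⁻¹ := by
          rw [(Commute.inv_right (hc : Commute _ (q : G))).eq]
        _ = (q : G) * (a * b) * (q : G)⁻¹ * (((q' : G) * (a * b) * (q' : G)⁻¹ * (a * b)⁻¹) * (a * b)⁻¹) := by group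
        _ = (q : G) * (a * b) * (q : G)⁻¹ * ((a * b)⁻¹ * ((q' : G) * (a * b) * (q' : G)⁻¹ * (a * b)⁻¹)) := by
          rw [(Commute.inv_right (hc' : Commute _ (a * b))).eq]
        _ = _ := by group)
  have hU : Nat.card ↥P.U ≤ 4 := by
    have hs4 : Function.Surjective (fun i : Fin 4 => (⟨![1, z, x, z * x] i, by
        fin_cases i
        exacts [one_mem _, P.zU, P.xU, mul_mem P.zU P.xU]⟩ : ↥P.U)) := by
      rintro ⟨w, hw⟩
      rcases hw with rfl | rfl | rfl | rfl
      exacts [⟨0, rfl⟩, ⟨1, rfl⟩, ⟨2, rfl⟩, ⟨3, rfl⟩]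
    simpa using Nat.card_le_card_of_surjective _ hs4
  have hr : Nat.card χ.range ≤ 4 := (Subgroup.card_le_card_group _).trans hU
  have h1 := χ.ker.card_mul_index
  rw [Subgroup.index_ker, P.card_A] at h1
  have hk : Nat.card χ.ker ≤ Nat.card {q : G // q ∈ Q ∧ q * (a * b) = a * b * q} :=
    Nat.card_le_card_of_injective (fun k => ⟨((k : ↥(Q ⊓ Subgroup.centralizer ({x} : Set G) : Subgroup G)) : G), k.1.2.1, by
      have := congrArg Subtype.val (MonoidHom.mem_ker.mp k.2)
      exact conj_fix_iff.mp (mul_inv_eq_one.mp this)⟩) fun k k' e =>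
        Subtype.ext (Subtype.ext (congrArg (fun w : {q : G // q ∈ Q ∧ q * (a * b) = a * b * q} => w.1) e))
  nlinarith

/-- The two kinds of involutions are not conjugate. -/
theorem not_conj (hs : s ∈ Q) (hsp : bf (π s) (π x) = 1) {t : G} (ht : P.Typ s t) : ¬ IsConj z t := by
  classical
  intro hc
  obtain ⟨g, hg⟩ := isConj_iff.mp hc
  obtain ⟨htz, htx, htt, htQ, -⟩ := P.typ_props hs hsp ht
  have hE := P.h.conjBy g
  set y := g⁻¹ * z * g with hy
  have hyz : y * z = z * y := by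
    calc y * z = g⁻¹ * (z * t) * g := by rw [← hg, hy]; group
      _ = g⁻¹ * (t * z) * g := by rw [htz]
      _ = z * y := by rw [← hg, hy]; group
  have hyy : y * y = 1 := by rw [hy, show g⁻¹ * z * g * (g⁻¹ * z * g) = g⁻¹ * (z * z) * g by group, P.h.zz]; group
  have hyQ : y ∉ Q := fun hQ => htQ (by
    rw [← hg]
    exact (P.h.symm_iff (g := g)).mpr (mem_cj.mpr hQ))
  obtain ⟨x1, hx1, hyx1, hperp⟩ := P.h.exists_point hyz hyy hyQ
  obtain ⟨k1, -, P1⟩ := P.h.pr_of hx1
  obtain ⟨s1, hs1, hsp1, -⟩ := P1.exists_s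
  have hC := P1.card_cent hs1 hsp1 hyz hyx1 hperp
  set K := {q : G // q ∈ Q ∧ q * y = y * q} with hK
  have hKp : ∀ q : K, g * q.1 * g⁻¹ ∈ CfsgLargeExtra.cj g Q ∧ g * q.1 * g⁻¹ * z = z * (g * q.1 * g⁻¹) ∧
      g * q.1 * g⁻¹ * t = t * (g * q.1 * g⁻¹) := by
    intro q
    refine ⟨conj_mem_cj q.2.1, ?_, ?_⟩
    · have hgy : g * y * g⁻¹ = z := by rw [hy]; group
      calc g * q.1 * g⁻¹ * z = g * q.1 * g⁻¹ * (g * y * g⁻¹) := by rw [hgy]
        _ = g * (q.1 * y) * g⁻¹ := by group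
        _ = g * (y * q.1) * g⁻¹ := by rw [q.2.2]
        _ = g * y * g⁻¹ * (g * q.1 * g⁻¹) := by group
        _ = z * (g * q.1 * g⁻¹) := by rw [hgy]
    · rw [← hg, show g * q.1 * g⁻¹ * (g * z * g⁻¹) = g * (q.1 * z) * g⁻¹ by group, P.h.es.comm _ q.2.1]; group
  obtain ⟨a, b, ha, hax, hb, hbz, hte, qa, qb, hab⟩ := ht
  have ht' : P.Typ s t := ⟨a, b, ha, hax, hb, hbz, hte, qa, qb, hab⟩
  have hα : bf (π x) (π a) = 0 := by rw [bf_comm]; exact (P.comm_x ha).mp hax
  have hδ : bf (π x) (P.dl s b) = 0 := by rw [bf_comm]; exact P.dl_perp hs hb hbz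
  -- the vectors fixed by all
  have hW : ∀ q : K, ∀ w, bf (π x) w = 0 → bf (π a) w = 0 → bf (P.dl s b) w = 0 →
      (M (g * q.1 * g⁻¹)).1 w = w := by
    intro q w h1 h2 h3
    obtain ⟨l, hl, rfl⟩ := P.h.π_surj w
    obtain ⟨hk1, hk2, hk3⟩ := hKp q
    have hlx : l * x = x * l := (P.comm_x hl).mpr (by rw [bf_comm]; exact h1)
    have hlt : l * t = t * l := by
      rw [hte]
      refine Commute.mul_right ((P.h.comm l hl a ha).mpr (by rw [← h2]; exact bf_comm _ _)) ?_
      have := P.comm_eq hs hsp hl hlx hb hbz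
      rw [bf_comm, h3, if_pos rfl] at this
      exact mul_inv_eq_one.mp (by rw [← this]; group)
    set k := g * q.1 * g⁻¹
    have h4 : k * l * k⁻¹ * l⁻¹ ∈ Q := mul_mem (P.h.nor_mem hk2 hl) (inv_mem hl)
    have h5 : k * l * k⁻¹ * l⁻¹ ∈ CfsgLargeExtra.cj g Q := by
      rw [show k * l * k⁻¹ * l⁻¹ = k * (l * k⁻¹ * l⁻¹) by group]
      refine mul_mem hk1 (hE.nor_mem ?_ (inv_mem hk1))
      rw [hg]; exact hlt
    have h6 := P.inter_trivial hs hsp ht' hg h4 h5
    rw [← P.h.M_act k hk2 l hl, mul_inv_eq_one.mp h6]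
  -- the image is small
  let F : K → V × V := fun q => ((M (g * q.1 * g⁻¹)).1 (P.dl s b), (M (g * q.1 * g⁻¹)).1 (π a))
  have hpfix : ∀ q : K, (M (g * q.1 * g⁻¹)).1 (π x) = π x := fun q =>
    hW q (π x) (bf_self _) (by rw [bf_comm, hα]) (by rw [bf_comm, hδ])
  have hFmem : ∀ q : K, F q ∈ ({P.dl s b, P.dl s b + π x} : Finset V) ×ˢ
      ({π a, π a + π x, π a + P.dl s b, π a + P.dl s b + π x} : Finset V) := by
    intro q
    obtain ⟨hk1, hk2, hk3⟩ := hKp q
    set c := M (g * q.1 * g⁻¹) with hc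
    have hp' := hpfix q
    rw [← hc] at hp'
    have hMt : M t = M b := by rw [hte, P.M_typ hs ha hbz]
    have hcomm : c * M b = M b * c := by
      rw [← hMt, hc, ← P.h.M_mul _ _ hk2 htz, ← P.h.M_mul _ _ htz hk2, hk3]
    have e1 : c.1 (P.dl s b) = c.1 (π s) + (M b).1 (c.1 (π s)) := by
      rw [P.dl_eq hs hbz, map_add]
      congr 1
      exact LinearEquiv.congr_fun (congrArg Subtype.val hcomm) (π s)
    have hw : bf (c.1 (π s) + π s) (π x) = 0 := by
      rw [bf_add_left, hsp]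
      conv_lhs => rw [← hp']
      rw [bf_map, hsp]; decide
    have e2 : Eqp (π x) (P.dl s b) (c.1 (P.dl s b)) := by
      have := ((P.perp_cases hb hbz hw).add (Eqp.refl (π x) (c.1 (π s) + π s))).add (Eqp.refl (π x) (P.dl s b))
      rw [V_add_self, zero_add, map_add] at this
      rw [P.dl_eq hs hbz,
        show (M b).1 (c.1 (π s)) + (M b).1 (π s) + (c.1 (π s) + π s) + (π s + (M b).1 (π s))
          = c.1 (π s) + (M b).1 (c.1 (π s)) + (π s + π s) + ((M b).1 (π s) + (M b).1 (π s)) by abel,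
        V_add_self, V_add_self, add_zero, add_zero, ← P.dl_eq hs hbz, ← e1] at this
      exact this
    have hap : bf (π x) (c.1 (π a)) = 0 := by
      conv_lhs => rw [← hp']
      rw [bf_map, hα]
    have had : bf (c.1 (π a)) (P.dl s b) = 1 := by
      have := bf_map c (π a) (P.dl s b)
      rw [e2.bf_eq (by rw [bf_comm]; exact hap), hab] at this
      exact this
    have hspan := mem_span_of_perp P.p_q P.p_ne qa qb hα hδ hab hap fun w h1 h2 h3 => by
      rw [← hW q w h1 h2 h3, ← hc, bf_map, h2]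
    refine Finset.mem_product.mpr ⟨?_, ?_⟩
    · rcases e2 with e | e <;> show c.1 (P.dl s b) ∈ _ <;> rw [e] <;> simp
    · show c.1 (π a) ∈ _
      rcases hspan with e | e | e | e | e | e | e | e
      · rw [e, bf_zero_left] at had; exact absurd had zero_ne_one
      · rw [e, hδ] at had; exact absurd had zero_ne_one
      · simp [e]
      · simp [e]
      · rw [e, bf_self] at had; exact absurd had zero_ne_one
      · rw [e, bf_add_left, bf_self, hδ, add_zero] at had; exact absurd had zero_ne_one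
      · simp [e]
      · simp [e]
  have hFinj : Function.Injective F := by
    intro q q' e
    obtain ⟨hk1, hk2, -⟩ := hKp q
    obtain ⟨hk1', hk2', -⟩ := hKp q'
    have hp1 := hpfix q
    have hp2 := hpfix q'
    have hMeq : M (g * q.1 * g⁻¹) = M (g * q'.1 * g⁻¹) := by
      set c := M (g * q.1 * g⁻¹) with hc
      set c' := M (g * q'.1 * g⁻¹) with hc'
      have hperp' : ∀ v, bf v (π x) = 0 → c.1 v = c'.1 v := by
        intro v hv
        obtain ⟨w, hwdef⟩ : ∃ w, w = v + bf v (P.dl s b) • π a + bf v (π a) • P.dl s b := ⟨_, rfl⟩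
        have e1 : ∀ (r : F2) (u u' : V), bf u (r • u') = r * bf u u' := fun r u u' => by
          show polar qf u (r • u') = _
          rw [polar_smul_right]; rfl
        have w1 : bf (π x) w = 0 := by
          rw [hwdef, bf_add_right, bf_add_right, e1, e1, hα, hδ, bf_comm, hv]; simp
        have w2 : bf (π a) w = 0 := by
          rw [hwdef, bf_add_right, bf_add_right, e1, e1, bf_self, hab, bf_comm (π a) v, mul_zero, mul_one, add_zero]
          exact (show ∀ r : F2, r + r = 0 by decide) _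
        have w3 : bf (P.dl s b) w = 0 := by
          rw [hwdef, bf_add_right, bf_add_right, e1, e1, bf_self, bf_comm (P.dl s b) (π a), hab,
            bf_comm (P.dl s b) v, mul_zero, mul_one, add_zero]
          exact (show ∀ r : F2, r + r = 0 by decide) _
        have hv' : v = w + bf v (P.dl s b) • π a + bf v (π a) • P.dl s b := by
          rw [hwdef]
          generalize bf v (P.dl s b) • π a = A1
          generalize bf v (π a) • P.dl s b = B1
          rw [show v + A1 + B1 + A1 + B1 = v + (A1 + A1) + (B1 + B1) by abel, V_add_self, V_add_self, add_zero, add_zero]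
        rw [hv']
        simp only [map_add, map_smul]
        rw [hc, hc', hW q w w1 w2 w3, hW q' w w1 w2 w3]
        have ee1 := congrArg Prod.fst e
        have ee2 := congrArg Prod.snd e
        simp only [F] at ee1 ee2
        rw [ee1, ee2]
      refine inv_mul_eq_one.mp (P.eq_of_radical (g := c⁻¹ * c') (k := 1) hsp ?_ rfl ?_ (fun v _ => Eqp.refl _ v) ?_)
      · show c.1.symm (c'.1 (π x)) = π x
        rw [hp2, LinearEquiv.symm_apply_eq, hp1]
      · intro v hv
        left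
        show c.1.symm (c'.1 v) = v
        rw [LinearEquiv.symm_apply_eq, hperp' v hv]
      · refine P.uniq fun l hl hlx => ?_
        show bf (π l) (c.1.symm (c'.1 (π s))) = bf (π l) (π s)
        conv_lhs => rw [← bf_map c, LinearEquiv.apply_symm_apply, hperp' _ ((P.comm_x hl).mp hlx), bf_map]
    have hz : (g * q.1 * g⁻¹)⁻¹ * (g * q'.1 * g⁻¹) * z = z * ((g * q.1 * g⁻¹)⁻¹ * (g * q'.1 * g⁻¹)) :=
      Commute.mul_left (Commute.inv_left hk2) hk2'
    have hQ : (g * q.1 * g⁻¹)⁻¹ * (g * q'.1 * g⁻¹) ∈ Q := by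
      rw [← P.h.M_ker _ hz, P.h.M_mul _ _ (Commute.inv_left hk2) hk2', P.h.M_inv hk2, hMeq, inv_mul_cancel]
    have := P.inter_trivial hs hsp ht' hg hQ (mul_mem (inv_mem hk1) hk1')
    exact Subtype.ext (mul_left_cancel (mul_right_cancel (inv_mul_eq_one.mp this)))
  haveI : Fintype K := Fintype.ofFinite K
  have hle := Finset.card_le_card_of_injOn F (s := Finset.univ) (fun q _ => hFmem q) hFinj.injOn
  rw [Finset.card_univ, Finset.card_product, ← Nat.card_eq_fintype_card] at hle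
  have h2 : ({P.dl s b, P.dl s b + π x} : Finset V).card ≤ 2 := Finset.card_le_two
  have h4 : ({π a, π a + π x, π a + P.dl s b, π a + P.dl s b + π x} : Finset V).card ≤ 4 := Finset.card_le_four
  have := Nat.mul_le_mul h2 h4
  change 16 ≤ Nat.card K at hC
  omega

end Pr

end CfsgLib.SuzType
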