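import Cfsg.Agent.Lib.SuzType.Part

/-!
Groups of Suzuki sporadic type: commutators and squares in the product of the two parts.
-/

set_option autoImplicit false
set_option linter.unusedSectionVars false
set_option maxRecDepth 20000
set_option synthInstance.maxSize 2048
set_option synthInstance.maxHeartbeats 200000

namespace CfsgLib.SuzType

open QuadraticMap CfsgLargeExtra
open CfsgLib.HallJankoType (mem_cent conj_fix_iff)

universe u

variable {G : Type u} [Group G] [Finite G] {z x s : G} {Q Q' : Subgroup G} {π π' : G → V} {M M' : G → O6}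

/-- Every orthogonal vector is a short sum of singular ones. -/
theorem span_std : ∀ v : V, bf e0 v = 0 → v = 0 ∨ v = e0 ∨ qf v = 0 ∨
    ∃ w : V, qf w = 0 ∧ bf e0 w = 0 ∧ w ≠ 0 ∧ w ≠ e0 ∧ qf (v + w) = 0 ∧ v + w ≠ 0 ∧ v + w ≠ e0 := by
  decide +kernel

theorem span_pt {p : V} (hq : qf p = 0) (hp : p ≠ 0) {v : V} (hv : bf v p = 0) :
    v = 0 ∨ v = p ∨ qf v = 0 ∨
      ∃ w : V, qf w = 0 ∧ bf w p = 0 ∧ w ≠ 0 ∧ w ≠ p ∧ qf (v + w) = 0 ∧ v + w ≠ 0 ∧ v + w ≠ p := by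
  obtain ⟨g, -, hgp⟩ := std_one hq hp
  rcases span_std (g.1 v) (by rw [← hgp, bf_map, bf_comm, hv]) with e | e | e | ⟨w, h1, h2, h3, h4, h5, h6, h7⟩
  · exact Or.inl (g.1.map_eq_zero_iff.mp e)
  · exact Or.inr (Or.inl (map_inj_back (e.trans hgp.symm)))
  · exact Or.inr (Or.inr (Or.inl ((g.2 v).symm.trans e)))
  · obtain ⟨w, rfl⟩ := g.1.surjective w
    refine Or.inr (Or.inr (Or.inr ⟨w, (g.2 w).symm.trans h1, ?_, fun e => h3 (by rw [e, map_zero]),
      fun e => h4 (by rw [e, hgp]), ?_, fun e => h6 (by rw [← map_add, e, map_zero]),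
      fun e => h7 (by rw [← map_add, e, hgp])⟩))
    · rw [← bf_map g, hgp, bf_comm, h2]
    · rw [← g.2 (v + w), map_add]; exact h5

namespace Pr

variable (P : Pr z x Q Q' π π' M M')
include P

omit [Finite G] in
/-- The component of a commutator at the first involution. -/
def kap (_P : Pr z x Q Q' π π' M M') (a b : G) : F2 :=
  if π' (a * b * a⁻¹ * b⁻¹) = 0 then 0 else 1

theorem π'_z_ne : π' z ≠ 0 := P.symm.p_ne

theorem comm_swap {a b : G} (ha : a ∈ Q) (hax : a * x = x * a) (hb : b ∈ Q') (hbz : b * z = z * b) :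
    b * a * b⁻¹ * a⁻¹ = a * b * a⁻¹ * b⁻¹ := by
  rw [show b * a * b⁻¹ * a⁻¹ = (a * b * a⁻¹ * b⁻¹)⁻¹ by group]
  exact inv_eq_of_mul_eq_one_right (P.U_le (P.comm_mem ha hax hb hbz)).2.2

theorem comm_π (hs : s ∈ Q) (hsp : bf (π s) (π x) = 1) {a b : G} (ha : a ∈ Q) (hax : a * x = x * a) (hb : b ∈ Q')
    (hbz : b * z = z * b) : π (a * b * a⁻¹ * b⁻¹) = bf (π a) (P.dl s b) • π x := by
  have hq := P.h.nor_mem hbz (inv_mem ha)
  rw [show a * b * a⁻¹ * b⁻¹ = a * (b * a⁻¹ * b⁻¹) by group, P.h.π_mul a ha _ hq,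
    P.h.M_act b hbz _ (inv_mem ha), P.h.π_inv ha, P.act hs hsp hb hbz ((P.comm_x ha).mp hax),
    ← add_assoc, V_add_self, zero_add]

theorem kap_eq {t : G} (ht : t ∈ Q') (htp : bf (π' t) (π' z) = 1) {a b : G} (ha : a ∈ Q) (hax : a * x = x * a)
    (hb : b ∈ Q') (hbz : b * z = z * b) : P.kap a b = bf (π' b) (P.symm.dl t a) := by
  have e := P.symm.comm_π ht htp hb hbz ha hax
  rw [P.comm_swap ha hax hb hbz] at e
  rw [kap, e]
  rcases F2_cases (bf (π' b) (P.symm.dl t a)) with h | h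
  · rw [h, zero_smul, if_pos rfl]
  · rw [h, one_smul, if_neg P.π'_z_ne]

theorem kap_central {a b : G} (h : a * b = b * a) : P.kap a b = 0 := by
  rw [kap, show a * b * a⁻¹ * b⁻¹ = 1 by rw [h]; group, P.h'.π_one, if_pos rfl]

theorem kap_mul_left {a a' b : G} (ha : a ∈ Q) (hax : a * x = x * a) (ha' : a' ∈ Q) (hax' : a' * x = x * a')
    (hb : b ∈ Q') (hbz : b * z = z * b) : P.kap (a * a') b = P.kap a b + P.kap a' b := by
  obtain ⟨t, ht, htp, -⟩ := P.symm.exists_s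
  rw [P.kap_eq ht htp ha hax hb hbz, P.kap_eq ht htp ha' hax' hb hbz,
    P.kap_eq ht htp (mul_mem ha ha') (Commute.mul_left hax hax') hb hbz, ← bf_add_right]
  exact (P.symm.dl_mul ht ha hax ha' hax').bf_eq ((P.symm.comm_x hb).mp hbz)

theorem kap_mul_right {a b b' : G} (ha : a ∈ Q) (hax : a * x = x * a) (hb : b ∈ Q') (hbz : b * z = z * b)
    (hb' : b' ∈ Q') (hbz' : b' * z = z * b') : P.kap a (b * b') = P.kap a b + P.kap a b' := by
  obtain ⟨t, ht, htp, -⟩ := P.symm.exists_s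
  rw [P.kap_eq ht htp ha hax hb hbz, P.kap_eq ht htp ha hax hb' hbz',
    P.kap_eq ht htp ha hax (mul_mem hb hb') (Commute.mul_left hbz hbz'), P.h'.π_mul _ hb _ hb', bf_add_left]

omit [Finite G] in
/-- The component is given by a vector. -/
def Rel (P : Pr z x Q Q' π π' M M') (b : G) (φ : V) : Prop :=
  ∀ a ∈ Q, a * x = x * a → P.kap a b = bf (π a) φ

theorem uniq {φ φ' : V} (h : ∀ a ∈ Q, a * x = x * a → bf (π a) φ = bf (π a) φ') : Eqp (π x) φ φ' := by
  obtain ⟨s, hs, hsp, -⟩ := P.exists_s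
  have hz : ∀ w, bf w (π x) = 0 → bf w (φ + φ') = 0 := fun w hw => by
    obtain ⟨a, ha, rfl⟩ := P.h.π_surj w
    rw [bf_add_right, h a ha ((P.comm_x ha).mpr hw)]
    exact (show ∀ c : F2, c + c = 0 by decide) _
  have key : φ + φ' + bf (π s) (φ + φ') • π x = 0 := qf_nondeg.2 _ fun w => by
    show bf w (φ + φ' + bf (π s) (φ + φ') • π x) = 0
    rw [bf_add_right]
    show bf w (φ + φ') + polar qf w (bf (π s) (φ + φ') • π x) = 0
    rw [polar_smul_right, smul_eq_mul]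
    rcases F2_cases (bf w (π x)) with hw | hw
    · rw [show polar qf w (π x) = 0 from hw, hz w hw, mul_zero, add_zero]
    · have h1 := hz (w + π s) (by rw [bf_add_left, hw, hsp]; decide)
      rw [bf_add_left] at h1
      rw [show polar qf w (π x) = 1 from hw, mul_one]
      exact h1
  rcases F2_cases (bf (π s) (φ + φ')) with e | e
  · rw [e, zero_smul, add_zero] at key
    left
    rw [← zero_add φ', ← V_add_self φ, add_assoc, key, add_zero]
  · rw [e, one_smul] at key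
    right
    calc φ' = φ + φ + (π x + π x) + φ' := by rw [V_add_self, V_add_self, add_zero, zero_add]
      _ = φ + π x + (φ + φ' + π x) := by abel
      _ = φ + π x := by rw [key, add_zero]

theorem rel_uniq {b : G} {φ φ' : V} (h : P.Rel b φ) (h' : P.Rel b φ') : Eqp (π x) φ φ' :=
  P.uniq fun a ha hax => (h a ha hax).symm.trans (h' a ha hax)

theorem rel_congr {b : G} {φ φ' : V} (h : P.Rel b φ) (e : Eqp (π x) φ φ') : P.Rel b φ' := fun a ha hax => by
  rw [h a ha hax, e.bf_eq ((P.comm_x ha).mp hax)]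

theorem rel_exists {b : G} (hb : b ∈ Q') (hbz : b * z = z * b) : ∃ φ, P.Rel b φ := by
  classical
  obtain ⟨s, hs, hsp, -⟩ := P.exists_s
  have hA : ∀ v : V, ∃ a ∈ Q, a * x = x * a ∧ π a = v + bf v (π x) • π s := fun v => by
    obtain ⟨a, ha, e⟩ := P.h.π_surj (v + bf v (π x) • π s)
    refine ⟨a, ha, (P.comm_x ha).mpr ?_, e⟩
    rw [e]
    rcases F2_cases (bf v (π x)) with h | h
    · rw [h, zero_smul, add_zero, h]
    · rw [h, one_smul, bf_add_left, h, hsp]; decide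
  choose A hAQ hAx hAπ using hA
  have hdep : ∀ {a a' : G}, a ∈ Q → a * x = x * a → a' ∈ Q → π a = π a' → P.kap a' b = P.kap a b := by
    intro a a' ha hax ha' e
    rcases P.h.π_eq ha ha' e with rfl | rfl
    · rfl
    · rw [P.kap_mul_left ha hax P.h.es.mem P.zx hb hbz, P.kap_central hbz.symm, add_zero]
  let f : V →+ F2 := AddMonoidHom.mk' (fun v => P.kap (A v) b) fun v w => by
    rw [← P.kap_mul_left (hAQ v) (hAx v) (hAQ w) (hAx w) hb hbz]
    refine hdep (mul_mem (hAQ v) (hAQ w)) (Commute.mul_left (hAx v) (hAx w)) (hAQ _) ?_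
    rw [P.h.π_mul _ (hAQ v) _ (hAQ w), hAπ, hAπ, hAπ, bf_add_left, add_smul]
    abel
  obtain ⟨φ, hφ⟩ := exists_dual (f.toZModLinearMap 2)
  refine ⟨φ, fun a ha hax => ?_⟩
  rw [← hφ]
  show _ = P.kap (A (π a)) b
  refine (hdep ha hax (hAQ _) ?_).symm
  rw [hAπ, (P.comm_x ha).mp hax, zero_smul, add_zero]

theorem fix_c {c : G} (hcz : c * z = z * c) (hcx : c * x = x * c) : (M c).1 (π x) = π x := by
  rw [← P.h.M_act c hcz x P.hx, conj_fix_iff.mpr hcx]

theorem comm_conj {c a b : G} (hcz : c * z = z * c) (hcx : c * x = x * c) (ha : a ∈ Q) (hax : a * x = x * a)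
    (hb : b ∈ Q') (hbz : b * z = z * b) :
    c * a * c⁻¹ * (c * b * c⁻¹) * (c * a * c⁻¹)⁻¹ * (c * b * c⁻¹)⁻¹ = a * b * a⁻¹ * b⁻¹ := by
  rw [show c * a * c⁻¹ * (c * b * c⁻¹) * (c * a * c⁻¹)⁻¹ * (c * b * c⁻¹)⁻¹ = c * (a * b * a⁻¹ * b⁻¹) * c⁻¹ by group]
  exact conj_fix_iff.mpr (P.U_central (P.comm_mem ha hax hb hbz) hcz hcx).symm

theorem conj_pre {c a : G} (hcz : c * z = z * c) (hcx : c * x = x * c) (ha : a ∈ Q) (hax : a * x = x * a) :
    c⁻¹ * a * c ∈ Q ∧ c⁻¹ * a * c * x = x * (c⁻¹ * a * c) ∧ c * (c⁻¹ * a * c) * c⁻¹ = a := by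
  refine ⟨?_, Commute.mul_left (Commute.mul_left (Commute.inv_left hcx) hax) hcx, by group⟩
  have := P.h.nor_mem (Commute.inv_left hcz) ha
  rwa [inv_inv] at this

theorem conj_mem_B {c b : G} (hcz : c * z = z * c) (hcx : c * x = x * c) (hb : b ∈ Q') (hbz : b * z = z * b) :
    c * b * c⁻¹ ∈ Q' ∧ c * b * c⁻¹ * z = z * (c * b * c⁻¹) :=
  ⟨P.h'.nor_mem hcx hb, Commute.mul_left (Commute.mul_left hcz hbz) (Commute.inv_left hcz)⟩

theorem rel_conj {c b : G} (hcz : c * z = z * c) (hcx : c * x = x * c) (hb : b ∈ Q') (hbz : b * z = z * b) {φ : V}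
    (h : P.Rel b φ) : P.Rel (c * b * c⁻¹) ((M c).1 φ) := by
  intro a ha hax
  obtain ⟨ha0, hax0, he⟩ := P.conj_pre hcz hcx ha hax
  have hk : P.kap a (c * b * c⁻¹) = P.kap (c⁻¹ * a * c) b := by
    conv_lhs => rw [← he]
    rw [kap, P.comm_conj hcz hcx ha0 hax0 hb hbz]
    rfl
  rw [hk, h _ ha0 hax0]
  conv_rhs => rw [← he, P.h.M_act c hcz _ ha0, bf_map]

theorem dl_conj (hs : s ∈ Q) (hsp : bf (π s) (π x) = 1) {c b : G} (hcz : c * z = z * c) (hcx : c * x = x * c)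
    (hb : b ∈ Q') (hbz : b * z = z * b) : Eqp (π x) ((M c).1 (P.dl s b)) (P.dl s (c * b * c⁻¹)) := by
  obtain ⟨hb1, hbz1⟩ := P.conj_mem_B hcz hcx hb hbz
  refine P.uniq fun a ha hax => ?_
  obtain ⟨ha0, hax0, he⟩ := P.conj_pre hcz hcx ha hax
  have e1 := P.comm_π hs hsp ha hax hb1 hbz1
  have e2 := P.comm_π hs hsp ha0 hax0 hb hbz
  have e3 := P.comm_conj hcz hcx ha0 hax0 hb hbz
  rw [he] at e3
  rw [e3, e2] at e1
  have e4 := smul_left_injective F2 P.p_ne e1
  rw [← e4]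
  conv_lhs => rw [← he, P.h.M_act c hcz _ ha0, bf_map]

theorem kap_U {a u : G} (ha : a ∈ Q) (hax : a * x = x * a) (hu : u ∈ P.U) : P.kap a u = 0 :=
  P.kap_central (P.U_central hu (P.h.es.comm a ha) hax).symm

theorem U_mem' {u : G} (hu : u ∈ P.U) : u ∈ Q' ∧ u * z = z * u := by
  refine ⟨?_, (P.U_central hu rfl P.zx)⟩
  rcases hu with rfl | rfl | rfl | rfl
  exacts [one_mem _, P.hz, P.h'.es.mem, mul_mem P.hz P.h'.es.mem]

theorem rel_transfer (hs : s ∈ Q) (hsp : bf (π s) (π x) = 1) {b b' : G} (hb : b ∈ Q') (hbz : b * z = z * b)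
    (hb' : b' ∈ Q') (hbz' : b' * z = z * b') {g : O6} (hg : g ∈ Om) (hgp : g.1 (π x) = π x)
    (e : Eqp (π x) (g.1 (P.dl s b)) (P.dl s b')) {φ : V} (h : P.Rel b φ) : P.Rel b' (g.1 φ) := by
  obtain ⟨c, hcz, hcx, rfl⟩ := P.exists_lift hg hgp
  obtain ⟨hb1, hbz1⟩ := P.conj_mem_B hcz hcx hb hbz
  obtain ⟨u, hu, rfl⟩ := P.dl_cong hs hsp hb1 hbz1 hb' hbz'
    ((P.dl_conj hs hsp hcz hcx hb hbz).symm.trans e)
  intro a ha hax
  rw [P.kap_mul_right ha hax hb1 hbz1 (P.U_mem' hu).1 (P.U_mem' hu).2, P.kap_U ha hax hu, add_zero]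
  exact P.rel_conj hcz hcx hb hbz h a ha hax

omit [Finite G] in
/-- A singular part, not in the four group. -/
def Sng (P : Pr z x Q Q' π π' M M') (s b : G) : Prop :=
  qf (P.dl s b) = 0 ∧ P.dl s b ≠ 0 ∧ P.dl s b ≠ π x

theorem fixed_cases (hs : s ∈ Q) (hsp : bf (π s) (π x) = 1) {b : G} (hb : b ∈ Q') (hbz : b * z = z * b)
    (hsg : P.Sng s b) {φ : V} (hr : P.Rel b φ) : P.Rel b 0 ∨ P.Rel b (P.dl s b) := by
  have hφp : bf φ (π x) = 0 := by
    rw [bf_comm, ← hr x P.hx rfl]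
    exact P.kap_central (P.h'.es.comm b hb).symm
  obtain ⟨h, hh, hhp, hhd⟩ := std_two P.p_q P.p_ne hsg.1 (by rw [bf_comm]; exact P.dl_perp hs hb hbz) hsg.2.1 hsg.2.2
  rcases only_line (h.1 φ) (by rw [← hhp, bf_map, bf_comm, hφp]) with
    (e | e | e | e) | ⟨a, a', ha, ha', h0a, h1a, h0a', h1a', hne, hne'⟩
  · rw [h.1.map_eq_zero_iff.mp e] at hr; exact Or.inl hr
  · rw [← hhp] at e
    rw [map_inj_back e] at hr
    exact Or.inl (P.rel_congr hr (Or.inr (V_add_self _).symm))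
  · rw [← hhd] at e
    rw [map_inj_back e] at hr; exact Or.inr hr
  · rw [← hhd, ← hhp, ← map_add] at e
    rw [map_inj_back e] at hr
    exact Or.inr (P.rel_congr hr (Or.inr (by rw [add_assoc, V_add_self, add_zero])))
  · exfalso
    set k := tr a ha * tr a' ha' with hk
    have hfix : ∀ v, bf v a = 0 → bf v a' = 0 → k.1 v = v := fun v hv hv' => by
      show (tr a ha).1 ((tr a' ha').1 v) = v
      rw [tr_apply a' ha', hv', zero_smul, add_zero, tr_apply a ha, hv, zero_smul, add_zero]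
    have hg : h⁻¹ * k * h ∈ Om := mul_mem (mul_mem (inv_mem hh) (tr_mul_mem a a' ha ha')) hh
    have hgv : ∀ v, bf (h.1 v) a = 0 → bf (h.1 v) a' = 0 → (h⁻¹ * k * h).1 v = v := fun v hv hv' => by
      show h.1.symm (k.1 (h.1 v)) = v
      rw [hfix _ hv hv', LinearEquiv.symm_apply_apply]
    have hgd : (h⁻¹ * k * h).1 (P.dl s b) = P.dl s b :=
      hgv _ (by rw [hhd]; exact h1a) (by rw [hhd]; exact h1a')
    have hgp := hgv (π x) (by rw [hhp]; exact h0a) (by rw [hhp]; exact h0a')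
    have hr' := P.rel_transfer hs hsp hb hbz hb hbz hg hgp (by rw [hgd]; exact Eqp.refl _ _) hr
    have hmap : h.1 ((h⁻¹ * k * h).1 φ) = k.1 (h.1 φ) := by
      show h.1 (h.1.symm (k.1 (h.1 φ))) = _
      rw [LinearEquiv.apply_symm_apply]
    have hv : k.1 (h.1 φ) = h.1 φ + bf (h.1 φ) a' • a' + bf (h.1 φ + bf (h.1 φ) a' • a') a • a := by
      show (tr a ha).1 ((tr a' ha').1 (h.1 φ)) = _
      rw [tr_apply, tr_apply]
    rcases (P.rel_uniq hr hr').map h with e | e <;> rw [hmap, hv] at e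
    · exact hne e
    · rw [hhp] at e; exact hne' e

theorem dl_ind (hs : s ∈ Q) (hsp : bf (π s) (π x) = 1) (T : G → Prop) (hU : ∀ u ∈ P.U, T u)
    (hS : ∀ b, b ∈ Q' → b * z = z * b → P.Sng s b → T b)
    (hmul : ∀ b b', b ∈ Q' → b * z = z * b → b' ∈ Q' → b' * z = z * b' → T b → T b' → T (b * b'))
    {b : G} (hb : b ∈ Q') (hbz : b * z = z * b) : T b := by
  have hp := P.dl_perp hs hb hbz
  have hsmall : P.dl s b = 0 ∨ P.dl s b = π x → T b := fun e => hU b <| P.dl_inj hs hsp hb hbz <| by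
    rcases e with e | e <;> rw [e]
    exacts [Eqp.refl _ _, Or.inr (zero_add _).symm]
  rcases span_pt P.p_q P.p_ne hp with e | e | e | ⟨w, h1, h2, h3, h4, h5, h6, h7⟩
  · exact hsmall (Or.inl e)
  · exact hsmall (Or.inr e)
  · by_cases h0 : P.dl s b = 0
    · exact hsmall (Or.inl h0)
    by_cases h1 : P.dl s b = π x
    · exact hsmall (Or.inr h1)
    exact hS b hb hbz ⟨e, h0, h1⟩
  · obtain ⟨b1, hb1, hbz1, hw⟩ := P.dl_surj hs hsp h2
    have hS' : ∀ {c : G} {v : V}, c ∈ Q' → c * z = z * c → qf v = 0 → bf v (π x) = 0 → v ≠ 0 → v ≠ π x →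
        Eqp (π x) v (P.dl s c) → T c := by
      intro c v hc hcz hq hv hv0 hvp e
      refine hS c hc hcz ⟨(e.qf_eq P.p_q hv).trans hq, fun e' => ?_, fun e' => ?_⟩ <;>
        rcases e with e | e <;> rw [e'] at e
      · exact hv0 e.symm
      · exact hvp (by rw [← add_zero v, ← V_add_self (π x), ← add_assoc, ← e, zero_add])
      · exact hvp e.symm
      · exact hv0 (add_eq_right.mp e.symm)
    have hb2 : b1⁻¹ * b ∈ Q' := mul_mem (inv_mem hb1) hb
    have hbz2 : b1⁻¹ * b * z = z * (b1⁻¹ * b) := Commute.mul_left (Commute.inv_left hbz1) hbz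
    have e := P.dl_mul hs hb1 hbz1 hb2 hbz2
    rw [show b1 * (b1⁻¹ * b) = b by group] at e
    have e' : Eqp (π x) (P.dl s b + w) (P.dl s (b1⁻¹ * b)) := by
      have := (e.symm.add hw)
      rw [show P.dl s b1 + P.dl s (b1⁻¹ * b) + P.dl s b1 = P.dl s b1 + P.dl s b1 + P.dl s (b1⁻¹ * b) by abel,
        V_add_self, zero_add] at this
      exact this
    have := hmul b1 _ hb1 hbz1 hb2 hbz2 (hS' hb1 hbz1 h1 h2 h3 h4 hw)
      (hS' hb2 hbz2 h5 (by rw [bf_add_left, hp, h2, add_zero]) h6 h7 e')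
    rwa [show b1 * (b1⁻¹ * b) = b by group] at this

theorem rel_U {u : G} (hu : u ∈ P.U) : P.Rel u 0 := fun a ha hax => by
  rw [P.kap_U ha hax hu, bf_zero_right]

/-- The two components of the commutators agree. -/
theorem rel_dl (hs : s ∈ Q) (hsp : bf (π s) (π x) = 1) {b : G} (hb : b ∈ Q') (hbz : b * z = z * b) :
    P.Rel b (P.dl s b) := by
  have hmulR : ∀ b b' φ φ', b ∈ Q' → b * z = z * b → b' ∈ Q' → b' * z = z * b' → P.Rel b φ → P.Rel b' φ' →
      P.Rel (b * b') (φ + φ') := fun b b' φ φ' h1 h2 h3 h4 r r' a ha hax => by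
    rw [P.kap_mul_right ha hax h1 h2 h3 h4, r a ha hax, r' a ha hax, bf_add_right]
  by_cases hex : ∃ b0, b0 ∈ Q' ∧ b0 * z = z * b0 ∧ P.Sng s b0 ∧ P.Rel b0 (P.dl s b0)
  · obtain ⟨b0, h01, h02, h03, h04⟩ := hex
    refine P.dl_ind hs hsp (fun b => P.Rel b (P.dl s b)) (fun u hu => P.rel_congr (P.rel_U hu) (P.dl_U hs hu))
      (fun c hc hcz hsc => ?_) (fun c c' h1 h2 h3 h4 r r' => P.rel_congr (hmulR _ _ _ _ h1 h2 h3 h4 r r')
        (P.dl_mul hs h1 h2 h3 h4)) hb hbz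
    obtain ⟨k, hk, hkp, hkd⟩ := std_two P.p_q P.p_ne h03.1 (by rw [bf_comm]; exact P.dl_perp hs h01 h02) h03.2.1 h03.2.2
    obtain ⟨k', hk', hkp', hkd'⟩ := std_two P.p_q P.p_ne hsc.1 (by rw [bf_comm]; exact P.dl_perp hs hc hcz) hsc.2.1 hsc.2.2
    have hgd : (k'⁻¹ * k).1 (P.dl s b0) = P.dl s c := by
      show k'.1.symm (k.1 (P.dl s b0)) = _
      rw [hkd, ← hkd', LinearEquiv.symm_apply_apply]
    have hgp : (k'⁻¹ * k).1 (π x) = π x := by
      show k'.1.symm (k.1 (π x)) = _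
      rw [hkp, ← hkp', LinearEquiv.symm_apply_apply]
    have := P.rel_transfer hs hsp h01 h02 hc hcz (mul_mem (inv_mem hk') hk) hgp (by rw [hgd]; exact Eqp.refl _ _) h04
    rwa [hgd] at this
  · exfalso
    push Not at hex
    have hall : ∀ c, c ∈ Q' → c * z = z * c → P.Rel c 0 := fun c hc hcz =>
      P.dl_ind hs hsp (fun c => P.Rel c 0) (fun u hu => P.rel_U hu)
        (fun d hd hdz hsd => by
          obtain ⟨φ, hφ⟩ := P.rel_exists hd hdz
          exact (P.fixed_cases hs hsp hd hdz hsd hφ).resolve_right (hex d hd hdz hsd))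
        (fun d d' h1 h2 h3 h4 r r' => by have := hmulR _ _ _ _ h1 h2 h3 h4 r r'; rwa [add_zero] at this) hc hcz
    obtain ⟨t, ht, htp, -⟩ := P.symm.exists_s
    obtain ⟨g, -, hgp⟩ := std_one P.symm.p_q P.symm.p_ne
    obtain ⟨a, ha, hax, hv⟩ := P.symm.dl_surj ht htp (v := g.1.symm e1) (by
      rw [← bf_map g, LinearEquiv.apply_symm_apply, hgp, bf_comm]; exact std_facts.2.2.2.2.2.1)
    have h0 : Eqp (π' z) 0 (P.symm.dl t a) := P.symm.uniq fun c hc hcz => by
      rw [bf_zero_right, ← P.kap_eq ht htp ha hax hc hcz, hall c hc hcz a ha hax, bf_zero_right]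
    rcases hv.trans h0.symm with e | e
    · exact std_facts.2.2.2.2.2.2.2.2.2.2.2.2.2.2.1 (by rw [← g.1.apply_symm_apply e1]; 
                                                        rw [show g.1.symm e1 = 0 from e.symm, map_zero])
    · refine std_facts.2.2.2.2.2.2.2.2.2.2.2.2.2.2.2 ?_
      rw [← hgp, ← g.1.apply_symm_apply e1]
      refine congrArg g.1 ?_
      rw [← add_zero (g.1.symm e1), ← V_add_self (π' z), ← add_assoc, ← e, zero_add]

/-- The commutators between the two parts. -/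
theorem comm_eq (hs : s ∈ Q) (hsp : bf (π s) (π x) = 1) {a b : G} (ha : a ∈ Q) (hax : a * x = x * a) (hb : b ∈ Q')
    (hbz : b * z = z * b) : a * b * a⁻¹ * b⁻¹ = if bf (π a) (P.dl s b) = 0 then 1 else z * x := by
  have h1 := P.comm_π hs hsp ha hax hb hbz
  have h2 := P.rel_dl hs hsp hb hbz a ha hax
  rcases F2_cases (bf (π a) (P.dl s b)) with e | e <;> rw [e] at h1 h2 <;> rw [e]
  · rw [zero_smul] at h1
    rw [if_pos rfl]
    rcases P.comm_mem ha hax hb hbz with hu | hu | hu | hu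
    · exact hu
    · rw [kap, hu, if_neg P.π'_z_ne] at h2; exact absurd h2 one_ne_zero
    · rw [hu] at h1; exact absurd h1 P.p_ne
    · rw [hu, P.h.π_mul _ P.h.es.mem _ P.hx, P.h.π_z, zero_add] at h1; exact absurd h1 P.p_ne
  · rw [one_smul] at h1
    rw [if_neg (one_ne_zero (α := F2))]
    rcases P.comm_mem ha hax hb hbz with hu | hu | hu | hu
    · rw [hu, P.h.π_one] at h1; exact absurd h1.symm P.p_ne
    · rw [hu, P.h.π_z] at h1; exact absurd h1.symm P.p_ne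
    · rw [kap, hu, P.h'.π_z, if_pos rfl] at h2; exact absurd h2 zero_ne_one
    · exact hu

/-- Squares in the part at `x`. -/
theorem sq_B (hs : s ∈ Q) (hsp : bf (π s) (π x) = 1) {b : G} (hb : b ∈ Q') (hbz : b * z = z * b) :
    b * b = 1 ↔ qf (P.dl s b) = 0 := by
  have hsx : s * x * s⁻¹ = x * z := by
    rw [P.h.conj_Q hs P.hx, if_neg (by rw [hsp]; exact one_ne_zero)]
  have hd := P.dl_perp hs hb hbz
  set q := s * b * s⁻¹ * b⁻¹ with hq
  have hqQ : q ∈ Q := by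
    rw [hq, show s * b * s⁻¹ * b⁻¹ = s * (b * s⁻¹ * b⁻¹) by group]
    exact mul_mem hs (P.h.nor_mem hbz (inv_mem hs))
  have hπq : π q = P.dl s b := rfl
  have hqx : q * x = x * q := (P.comm_x hqQ).mpr hd
  have hqb : q * b = b * q := by
    have := P.comm_eq hs hsp hqQ hqx hb hbz
    rw [hπq, bf_self, if_pos rfl] at this
    exact mul_inv_eq_one.mp (by rw [← this]; group)
  have hconj : s * (b * b) * s⁻¹ = q * q * (b * b) := by
    rw [show q * q * (b * b) = q * (q * b) * b by group, hqb, hq]; group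
  rw [← hπq, ← P.h.sq q hqQ]
  rcases P.h'.es.sq b hb with e | e
  · rw [e, mul_one, mul_inv_cancel, mul_one] at hconj
    exact iff_of_true e hconj.symm
  · refine iff_of_false (fun e' => P.x1 (e.symm.trans e')) fun e' => ?_
    rw [e, e', one_mul, hsx] at hconj
    exact P.h.es.ne (mul_eq_left.mp hconj)

end Pr

end CfsgLib.SuzType
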