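import Cfsg.Agent.Lib.SuzType.Comm

/-!
Groups of Suzuki sporadic type: at most two classes of involutions.
-/

set_option autoImplicit false
set_option linter.unusedSectionVars false
set_option maxRecDepth 20000

namespace CfsgLib.SuzType

open QuadraticMap Module CfsgLargeExtra CfsgLib.SpinorNorm
open CfsgLib.HallJankoType (mem_cent conj_fix_iff)

universe u

variable {G : Type u} [Group G] [Finite G] {z x s : G} {Q Q' : Subgroup G} {π π' : G → V} {M M' : G → O6}

/-- An involution of the derived orthogonal group moves vectors only in the direction of a singular point on its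
perpendicular hyperplane. -/
theorem exists_center {g : O6} (hg : g ∈ Om) (h1 : g ≠ 1) (h2 : g * g = 1) :
    ∃ p w : V, qf p = 0 ∧ p ≠ 0 ∧ g.1 w + w = p ∧ g.1 p = p ∧ ∀ v, bf v p = 0 → Eqp p v (g.1 v) := by
  classical
  have hgg : ∀ v, g.1 (g.1 v) = v := fun v => LinearEquiv.congr_fun (congrArg Subtype.val h2) v
  set f : V →ₗ[F2] V := g.1.toLinearMap + LinearMap.id with hf
  have hfv : ∀ v, f v = g.1 v + v := fun v => rfl
  have hsym : ∀ v w, bf (f v) w = bf v (f w) := fun v w => by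
    rw [hfv, hfv, bf_add_left, bf_add_right]
    conv_lhs => rw [← bf_map g, hgg]
  have hker : LinearMap.ker f = fixSpace qf g := by
    ext v
    rw [LinearMap.mem_ker, hfv, mem_fix]
    refine ⟨fun e => ?_, fun e => by rw [e, V_add_self]⟩
    rw [← add_zero (g.1 v), ← V_add_self v, ← add_assoc, e, zero_add]
  have heven : Even (finrank F2 (LinearMap.range f)) := by
    have hd := MonoidHom.mem_ker.mp (Abelianization.commutator_subset_ker (dicksonHom qf qf_nondeg closure_refl6) hg)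
    have hd' : ((-1 : ℤˣ)) ^ (finrank F2 V + finrank F2 (fixSpace qf g)) = 1 := hd
    have he : Even (finrank F2 V + finrank F2 (fixSpace qf g)) := by
      rcases Nat.even_or_odd (finrank F2 V + finrank F2 (fixSpace qf g)) with e | e
      · exact e
      · rw [e.neg_one_pow] at hd'
        exact absurd hd' (by decide)
    have hr := LinearMap.finrank_range_add_finrank_ker f
    rw [hker] at hr
    rw [finrank_V] at he hr
    obtain ⟨k, hk⟩ := he
    exact ⟨(finrank F2 (LinearMap.range f)) / 2, by omega⟩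
  have hle : finrank F2 (LinearMap.range f) ≤ finrank F2 (LinearMap.ker f) := by
    refine Submodule.finrank_mono ?_
    rintro _ ⟨v, rfl⟩
    rw [LinearMap.mem_ker, hfv, hfv, map_add, hgg, add_comm v, V_add_self]
  have hr := LinearMap.finrank_range_add_finrank_ker f
  rw [finrank_V] at hr
  have hpos : finrank F2 (LinearMap.range f) ≠ 0 := fun e => by
    refine h1 (Subtype.ext (LinearEquiv.ext fun v => ?_))
    have := LinearMap.congr_fun (LinearMap.range_eq_bot.mp (Submodule.finrank_eq_zero.mp e)) v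
    rw [hfv, LinearMap.zero_apply] at this
    show g.1 v = v
    rw [← add_zero (g.1 v), ← V_add_self v, ← add_assoc, this, zero_add]
  have h2' : finrank F2 (LinearMap.range f) = 2 := by
    obtain ⟨k, hk⟩ := heven
    omega
  set R := Finset.univ.image f with hR
  have hcard : R.card = 4 := by
    have h3 := Module.natCard_eq_pow_finrank (K := F2) (V := LinearMap.range f)
    rw [h2', Nat.card_zmod] at h3
    have h4 : Nat.card ↥(LinearMap.range f) = R.card := by
      rw [← Nat.card_eq_finsetCard R]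
      exact Nat.card_congr (Equiv.subtypeEquivRight fun v => by simp [hR])
    rw [h4] at h3
    exact h3
  have hqf : ∀ v, qf (f v) = bf (g.1 v) v := fun v => by
    rw [hfv, qf_add, g.2, show ∀ a b : F2, a + a + b = b by decide]
  have hmem : ∀ v, f v ∈ R := fun v => Finset.mem_image.mpr ⟨v, Finset.mem_univ _, rfl⟩
  obtain ⟨w, hw, hw0⟩ : ∃ w, qf (f w) = 0 ∧ f w ≠ 0 := by
    by_contra hall
    push Not at hall
    have hsub : ∀ v v', f v ≠ 0 → f v' ≠ 0 → f v = f v' := by
      intro v v' hv hv'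
      by_contra hne
      have hvv : f (v + v') ≠ 0 := fun e => hne (by
        rw [map_add] at e
        rw [← add_zero (f v), ← V_add_self (f v'), ← add_assoc, e, zero_add])
      have e := bf_eq_one (u := g.1 (v + v')) (v := v + v') (by rw [← hqf]; exact fun e => hvv (hall _ e))
      rw [map_add, bf_add_left, bf_add_right, bf_add_right,
        bf_eq_one (u := g.1 v) (v := v) (by rw [← hqf]; exact fun e => hv (hall _ e)),
        bf_eq_one (u := g.1 v') (v := v') (by rw [← hqf]; exact fun e => hv' (hall _ e))] at e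
      have e2 : bf (g.1 v') v = bf (g.1 v) v' := by rw [← bf_map g, hgg, bf_comm]
      rw [e2] at e
      exact (show ∀ c : F2, 1 + c + (c + 1) ≠ 1 by decide) _ e
    obtain ⟨u, hu, hu0⟩ := Finset.exists_mem_ne (s := R) (by omega) 0
    have : R ⊆ {0, u} := by
      intro r hr'
      obtain ⟨v, -, rfl⟩ := Finset.mem_image.mp hr'
      obtain ⟨v', -, rfl⟩ := Finset.mem_image.mp hu
      rw [Finset.mem_insert, Finset.mem_singleton]
      by_cases h0 : f v = 0
      · exact Or.inl h0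
      · exact Or.inr (hsub v v' h0 hu0)
    have := (Finset.card_le_card this).trans Finset.card_le_two
    omega
  have hgp : g.1 (f w) = f w := by rw [hfv, map_add, hgg, add_comm]
  refine ⟨f w, w, hw, hw0, (hfv w).symm, hgp, fun v hv => ?_⟩
  have hvw : bf (f v) w = 0 := by rw [hsym, hv]
  have hpw : bf (f w) w = 0 := by rw [hfv, bf_add_left, bf_self, add_zero, ← hqf, hw]
  obtain ⟨v1, hv1⟩ : ∃ v1, bf (f v1) w ≠ 0 := by
    by_contra hall
    push Not at hall
    exact hw0 (qf_nondeg.2 _ fun v' => (hsym v' w).symm.trans (hall v'))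
  by_cases h0 : f v = 0
  · left
    rw [hfv] at h0
    rw [← add_zero (g.1 v), ← V_add_self v, ← add_assoc, h0, zero_add]
  by_cases hp : f v = f w
  · right
    rw [← hp, hfv, add_comm (g.1 v) v, ← add_assoc, V_add_self, zero_add]
  exfalso
  have hsub : ({0, f w, f v1, f v1 + f w, f v} : Finset V) ⊆ R := by
    intro r hr'
    simp only [Finset.mem_insert, Finset.mem_singleton] at hr'
    rcases hr' with rfl | rfl | rfl | rfl | rfl
    exacts [by simpa using hmem 0, hmem _, hmem _, by rw [← map_add]; exact hmem _, hmem _]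
  have e1 : f v1 ≠ 0 := fun e => hv1 (by rw [e, bf_zero_left])
  have e2 : f w ≠ f v1 := fun e => hv1 (by rw [← e, hpw])
  have e3 : f v1 + f w ≠ 0 := fun e => hv1 (by
    have := congrArg (fun r => bf r w) e
    simp only [bf_add_left, hpw, add_zero, bf_zero_left] at this
    exact this)
  have e4 : f w ≠ f v1 + f w := fun e => e1 (add_eq_right.mp e.symm)
  have e5 : f v1 ≠ f v1 + f w := fun e => hw0 (add_eq_left.mp e.symm)
  have e6 : f v1 ≠ f v := fun e => hv1 (by rw [e, hvw])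
  have e7 : f v1 + f w ≠ f v := fun e => hv1 (by
    have := congrArg (fun r => bf r w) e
    simp only [bf_add_left, hpw, add_zero, hvw] at this
    exact this)
  have := Finset.card_le_card hsub
  rw [Finset.card_insert_of_notMem (by simp [hw0.symm, e1.symm, e3.symm, Ne.symm h0]),
    Finset.card_insert_of_notMem (by simp [e2, e4, Ne.symm hp]),
    Finset.card_insert_of_notMem (by simp [e5, e6]), Finset.card_pair e7, hcard] at this
  omega

/-- Every involution of `C(z)` outside `Q` centralises a conjugate in `Q` and acts at it as a transvection group. -/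
theorem ST.exists_point (h : ST z Q π M) {y : G} (hyz : y * z = z * y) (hyy : y * y = 1) (hyQ : y ∉ Q) :
    ∃ x ∈ h.S, y * x = x * y ∧ ∀ v, bf v (π x) = 0 → Eqp (π x) v ((M y).1 v) := by
  have h2 : M y * M y = 1 := by rw [← h.M_mul _ _ hyz hyz, hyy, h.M_one]
  obtain ⟨p, w, hp, hp0, hw, hgp, hperp⟩ := exists_center (h.M_mem y hyz) (fun e => hyQ ((h.M_ker y hyz).mp e)) h2
  obtain ⟨q, hq, rfl⟩ := h.π_surj w
  have hq' := h.nor_mem hyz hq
  have hπ : π (y * q * y⁻¹ * q⁻¹) = p := by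
    rw [h.π_mul _ hq' _ (inv_mem hq), h.M_act y hyz q hq, h.π_inv hq, hw]
  have hxQ : y * q * y⁻¹ * q⁻¹ ∈ Q := mul_mem hq' (inv_mem hq)
  have hxx := (h.sq _ hxQ).mpr (by rw [hπ, hp])
  refine ⟨_, ⟨hxQ, hxx, by rw [hπ]; exact hp0⟩, conj_fix_iff.mp ?_, by rw [hπ]; exact hperp⟩
  rw [eq_comm, show y * (y * q * y⁻¹ * q⁻¹) * y⁻¹ = (y * y) * q * y⁻¹ * (q⁻¹ * y⁻¹) by group,
    hyy, one_mul]
  have hy' : y⁻¹ = y := inv_eq_of_mul_eq_one_right hyy
  have hinv : (y * q * y⁻¹ * q⁻¹)⁻¹ = y * q * y⁻¹ * q⁻¹ := inv_eq_of_mul_eq_one_right hxx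
  conv_lhs => rw [← hinv]
  rw [hy', show (y * q * y * q⁻¹)⁻¹ = q * y⁻¹ * q⁻¹ * y⁻¹ by group, hy']
  group

/-- The points of a totally singular plane at a point. -/
theorem witt_pt {p v w : V} (hq : qf p = 0) (hp : p ≠ 0) (hv : qf v = 0) (hw : qf w = 0) (hvp : bf v p = 0)
    (hwp : bf w p = 0) (hvw : bf v w = 0) : v = 0 ∨ v = p ∨ w = 0 ∨ w = p ∨ w = v ∨ w = v + p := by
  obtain ⟨g, -, hgp⟩ := std_one hq hp
  rcases witt_index (g.1 v) (g.1 w) ((g.2 v).trans hv) ((g.2 w).trans hw)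
      (by rw [← hgp, bf_map, bf_comm, hvp]) (by rw [← hgp, bf_map, bf_comm, hwp]) (by rw [bf_map, hvw]) with
    e | e | e | e | e | e
  · exact Or.inl (g.1.map_eq_zero_iff.mp e)
  · exact Or.inr (Or.inl (map_inj_back (e.trans hgp.symm)))
  · exact Or.inr (Or.inr (Or.inl (g.1.map_eq_zero_iff.mp e)))
  · exact Or.inr (Or.inr (Or.inr (Or.inl (map_inj_back (e.trans hgp.symm)))))
  · exact Or.inr (Or.inr (Or.inr (Or.inr (Or.inl (map_inj_back e)))))
  · rw [← hgp, ← map_add] at e
    exact Or.inr (Or.inr (Or.inr (Or.inr (Or.inr (map_inj_back e)))))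

namespace Pr

variable (P : Pr z x Q Q' π π' M M')
include P

theorem U_conj {u : G} (hs : s ∈ Q) (hu : u ∈ P.U) : s * u * s⁻¹ ∈ P.U := by
  obtain ⟨hQ, hp⟩ := P.mem_U_iff.mp hu
  refine P.mem_U_iff.mpr ⟨mul_mem (mul_mem hs hQ) (inv_mem hs), ?_⟩
  rwa [P.h.π_mul _ (mul_mem hs hQ) _ (inv_mem hs), P.h.π_mul _ hs _ hQ, P.h.π_inv hs, add_comm (π s) (π u), add_assoc,
    V_add_self, add_zero]

theorem decompose (hs : s ∈ Q) (hsp : bf (π s) (π x) = 1) {y : G} (hyz : y * z = z * y) (hyx : y * x = x * y)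
    (hperp : ∀ v, bf v (π x) = 0 → Eqp (π x) v ((M y).1 v)) :
    ∃ a b, a ∈ Q ∧ a * x = x * a ∧ b ∈ Q' ∧ b * z = z * b ∧ y = a * b := by
  have hfix := P.fix_c hyz hyx
  obtain ⟨b, hb, hbz, hv⟩ := P.dl_surj hs hsp (v := π s + (M y).1 (π s)) (by
    have e := bf_map (M y) (π s) (π x)
    rw [hfix] at e
    rw [bf_add_left, e]
    exact (show ∀ c : F2, c + c = 0 by decide) _)
  have hM : M y = M b := by
    refine P.eq_of_radical hsp hfix (P.fix_p hb hbz) hperp (fun v hv => P.perp_cases hb hbz hv) ?_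
    have := (Eqp.refl (π x) (π s)).add hv
    rwa [P.dl_eq hs hbz, ← add_assoc, V_add_self, zero_add, ← add_assoc, V_add_self, zero_add] at this
  refine ⟨y * b⁻¹, b, ?_, Commute.mul_left hyx (Commute.inv_left (P.h'.es.comm b hb)), hb, hbz, by group⟩
  have hz : y * b⁻¹ * z = z * (y * b⁻¹) := Commute.mul_left hyz (Commute.inv_left hbz)
  rw [← P.h.M_ker _ hz, P.h.M_mul _ _ hyz (Commute.inv_left hbz), P.h.M_inv hbz, hM, mul_inv_cancel]

omit [Finite G] in
/-- The second type of involution. -/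
def Typ (P : Pr z x Q Q' π π' M M') (s y : G) : Prop :=
  ∃ a b, a ∈ Q ∧ a * x = x * a ∧ b ∈ Q' ∧ b * z = z * b ∧ y = a * b ∧
    qf (π a) = 1 ∧ qf (P.dl s b) = 1 ∧ bf (π a) (P.dl s b) = 1

theorem sq_ab {a b : G} (ha : a ∈ Q) (hax : a * x = x * a) (hb : b ∈ Q') (hbz : b * z = z * b) :
    a * b * (a * b) = a * b * a⁻¹ * b⁻¹ * (a * a) * (b * b) := by
  have hc := P.comm_mem ha hax hb hbz
  have h1 : b * a = a * b * a⁻¹ * b⁻¹ * (a * b) := by rw [← P.comm_swap ha hax hb hbz]; group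
  have h2 := P.U_central hc (P.h.es.comm a ha) hax
  calc a * b * (a * b) = a * (b * a) * b := by group
    _ = a * (a * b * a⁻¹ * b⁻¹) * (a * b) * b := by rw [h1]; group
    _ = a * b * a⁻¹ * b⁻¹ * (a * a) * (b * b) := by rw [← h2]; group

theorem invol_cases (hs : s ∈ Q) (hsp : bf (π s) (π x) = 1) {a b : G} (ha : a ∈ Q) (hax : a * x = x * a) (hb : b ∈ Q')
    (hbz : b * z = z * b) (hyy : a * b * (a * b) = 1) (h1 : a * b ≠ 1) : IsConj z (a * b) ∨ P.Typ s (a * b) := by
  have hα := (P.comm_x ha).mp hax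
  have hδ := P.dl_perp hs hb hbz
  rw [P.sq_ab ha hax hb hbz, P.comm_eq hs hsp ha hax hb hbz] at hyy
  obtain ⟨hn1, hnz, hnx⟩ := P.zx_ne
  have hzxx : z * x * x = z := by rw [mul_assoc, P.xx, mul_one]
  have hzxz : z * x * z = x := by rw [P.zx, mul_assoc, P.h.zz, mul_one]
  have ha2 := P.h.es.sq a ha
  have hb2 := P.h'.es.sq b hb
  rcases F2_cases (bf (π a) (P.dl s b)) with hB | hB
  · left
    rw [if_pos hB, one_mul] at hyy
    obtain ⟨ea, eb⟩ : a * a = 1 ∧ b * b = 1 := by
      rcases ha2 with e | e <;> rcases hb2 with e' | e' <;> rw [e, e'] at hyy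
      · exact ⟨e, e'⟩
      · rw [one_mul] at hyy; exact absurd hyy P.x1
      · rw [mul_one] at hyy; exact absurd hyy P.h.es.ne
      · exact absurd hyy hn1
    have hab : a * b = b * a := by
      have := P.comm_eq hs hsp ha hax hb hbz
      rw [if_pos hB] at this
      exact mul_inv_eq_one.mp (by rw [← this]; group)
    have hyy' : a * b * (a * b) = 1 := by
      rw [show a * b * (a * b) = a * (b * a) * b by group, ← hab, show a * (a * b) * b = a * a * (b * b) by group,
        ea, eb, one_mul]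
    have hx : ∀ c, c ∈ Q' → c * c = 1 → c ≠ 1 → IsConj z c := fun c hc hcc hc1 =>
      (P.h.isConj_S P.memS).trans (P.h'.isConj_Q hc hcc hc1)
    have hsmallb : P.dl s b = 0 ∨ P.dl s b = π x → IsConj z (a * b) := fun e =>
      P.h.isConj_Q (mul_mem ha (P.U_le (P.dl_inj hs hsp hb hbz (by
        rcases e with e | e <;> rw [e]
        exacts [Eqp.refl _ _, Or.inr (zero_add _).symm]))).1) hyy' h1
    rcases witt_pt P.p_q P.p_ne ((P.h.sq a ha).mp ea) ((P.sq_B hs hsp hb hbz).mp eb) hα hδ hB with e | e | e | e | e | e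
    · exact hx _ (mul_mem (P.U_mem' (P.mem_U_iff.mpr ⟨ha, Or.inl e⟩)).1 hb) hyy' h1
    · exact hx _ (mul_mem (P.U_mem' (P.mem_U_iff.mpr ⟨ha, Or.inr e⟩)).1 hb) hyy' h1
    · exact hsmallb (Or.inl e)
    · exact hsmallb (Or.inr e)
    all_goals
      have hq : s * b * s⁻¹ * b⁻¹ ∈ Q := by
        rw [show s * b * s⁻¹ * b⁻¹ = s * (b * s⁻¹ * b⁻¹) by group]
        exact mul_mem hs (P.h.nor_mem hbz (inv_mem hs))
      have hu : a * (s * b * s⁻¹ * b⁻¹)⁻¹ ∈ P.U := by
        refine P.mem_U_iff.mpr ⟨mul_mem ha (inv_mem hq), ?_⟩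
        rw [P.h.π_mul _ ha _ (inv_mem hq), P.h.π_inv hq]
        show π a + P.dl s b = 0 ∨ π a + P.dl s b = π x
        rw [e]
        first
          | exact Or.inl (V_add_self _)
          | exact Or.inr (by rw [← add_assoc, V_add_self, zero_add])
      have hu' := P.U_conj (inv_mem hs) hu
      rw [inv_inv] at hu'
      have he : a * b = s * (s⁻¹ * (a * (s * b * s⁻¹ * b⁻¹)⁻¹) * s * b) * s⁻¹ := by group
      set c := s⁻¹ * (a * (s * b * s⁻¹ * b⁻¹)⁻¹) * s * b with hc
      refine (hx c (mul_mem (P.U_mem' hu').1 hb) ?_ fun e' => h1 ?_).trans (isConj_iff.mpr ⟨s, he.symm⟩)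
      · rw [← conj_eq_one_iff (a := s), show s * (c * c) * s⁻¹ = s * c * s⁻¹ * (s * c * s⁻¹) by group, ← he, hyy']
      · rw [he, e', mul_one, mul_inv_cancel]
  · right
    rw [if_neg (by rw [hB]; exact one_ne_zero)] at hyy
    obtain ⟨ea, eb⟩ : a * a ≠ 1 ∧ b * b ≠ 1 := by
      rcases ha2 with e | e <;> rcases hb2 with e' | e' <;> rw [e, e'] at hyy
      · rw [mul_one, mul_one] at hyy; exact absurd hyy hn1
      · rw [mul_one, hzxx] at hyy; exact absurd hyy P.h.es.ne
      · rw [mul_one, hzxz] at hyy; exact absurd hyy P.x1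
      · exact ⟨by rw [e]; exact P.h.es.ne, by rw [e']; exact P.x1⟩
    exact ⟨a, b, ha, hax, hb, hbz, rfl, (F2_cases _).resolve_left fun e => ea ((P.h.sq a ha).mpr e),
      (F2_cases _).resolve_left fun e => eb ((P.sq_B hs hsp hb hbz).mpr e), hB⟩

theorem exists_typ (hs : s ∈ Q) (hsp : bf (π s) (π x) = 1) : ∃ t, P.Typ s t := by
  obtain ⟨-, -, q2, q3, -, -, b6, b7, b8, -, -, -, -, -, -, -⟩ := std_facts
  obtain ⟨g, -, hgp⟩ := std_one P.p_q P.p_ne
  have hback : ∀ v, bf e0 v = 0 → bf (g.1.symm v) (π x) = 0 := fun v hv => by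
    rw [← bf_map g, LinearEquiv.apply_symm_apply, hgp, bf_comm, hv]
  obtain ⟨a, ha, hπa⟩ := P.h.π_surj (g.1.symm d0)
  obtain ⟨b, hb, hbz, hd⟩ := P.dl_surj hs hsp (hback d1 b7)
  have hq : ∀ v, qf (g.1.symm v) = qf v := fun v => by
    have := g.2 (g.1.symm v); rw [LinearEquiv.apply_symm_apply] at this; exact this.symm
  refine ⟨a * b, a, b, ha, (P.comm_x ha).mpr (by rw [hπa]; exact hback d0 b6), hb, hbz, rfl,
    by rw [hπa, hq, q2], ?_, ?_⟩
  · rw [hd.qf_eq P.p_q (hback d1 b7), hq, q3]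
  · rw [hπa, hd.bf_eq (hback d0 b6), ← bf_map g, LinearEquiv.apply_symm_apply, LinearEquiv.apply_symm_apply, b8]

theorem typ_conj (hs : s ∈ Q) (hsp : bf (π s) (π x) = 1) {y y' : G} (hy : P.Typ s y) (hy' : P.Typ s y') :
    IsConj y y' := by
  obtain ⟨a, b, ha, hax, hb, hbz, rfl, qa, qb, hab⟩ := hy
  obtain ⟨a', b', ha', hax', hb', hbz', rfl, qa', qb', hab'⟩ := hy'
  have perp : ∀ {v : V}, bf v (π x) = 0 → bf (π x) v = 0 := fun h => by rw [bf_comm, h]
  obtain ⟨g, hg, g0, g1, g2⟩ := std_pair P.p_q P.p_ne qa qb (perp ((P.comm_x ha).mp hax))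
    (perp (P.dl_perp hs hb hbz)) hab
  obtain ⟨k, hk, k0, k1, k2⟩ := std_pair P.p_q P.p_ne qa' qb' (perp ((P.comm_x ha').mp hax'))
    (perp (P.dl_perp hs hb' hbz')) hab'
  have hm : ∀ {v v' w : V}, g.1 v = w → k.1 v' = w → (k⁻¹ * g).1 v = v' := fun {v v' w} e e' => by
    show k.1.symm (g.1 v) = v'
    rw [e, ← e', LinearEquiv.symm_apply_apply]
  obtain ⟨c, hcz, hcx, hcM⟩ := P.exists_lift (mul_mem (inv_mem hk) hg) (hm g0 k0)
  have hca : π (c * a * c⁻¹) = π a' := by rw [P.h.M_act c hcz a ha, hcM, hm g1 k1]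
  obtain ⟨hb1, hbz1⟩ := P.conj_mem_B hcz hcx hb hbz
  have hcb : Eqp (π x) (P.dl s b') (P.dl s (c * b * c⁻¹)) := by
    have := P.dl_conj hs hsp hcz hcx hb hbz
    rwa [hcM, hm g2 k2] at this
  obtain ⟨u, hu, hub⟩ := P.dl_cong hs hsp hb' hbz' hb1 hbz1 hcb
  -- absorb the four group
  have habs : ∀ v ∈ P.U, IsConj (a' * b') (a' * b' * v) := by
    have hconj : ∀ w : V, bf w (π x) = 0 → IsConj (a' * b')
        ((if bf w (π a') = 0 then a' else a' * z) * ((if bf w (P.dl s b') = 0 then 1 else z * x) * b')) := by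
      intro w hw
      obtain ⟨q, hq, rfl⟩ := P.h.π_surj w
      refine isConj_iff.mpr ⟨q, ?_⟩
      rw [← P.h.conj_Q hq ha', ← P.comm_eq hs hsp hq ((P.comm_x hq).mpr hw) hb' hbz']
      group
    have hz : IsConj (a' * b') (a' * b' * z) := by
      have := hconj _ (P.dl_perp hs hb' hbz')
      rw [bf_self, if_pos rfl, one_mul, bf_comm, hab', if_neg one_ne_zero] at this
      rwa [mul_assoc a' z b', ← hbz', ← mul_assoc] at this
    have hzx : IsConj (a' * b') (a' * b' * (z * x)) := by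
      have := hconj _ ((P.comm_x ha').mp hax')
      rw [bf_self, if_pos rfl, hab', if_neg one_ne_zero] at this
      rwa [P.U_central (mul_mem P.zU P.xU) hbz' (P.h'.es.comm b' hb'), ← mul_assoc] at this
    have hx : IsConj (a' * b') (a' * b' * x) := by
      have := hconj (π a' + P.dl s b') (by rw [bf_add_left, (P.comm_x ha').mp hax', P.dl_perp hs hb' hbz', add_zero])
      rw [bf_add_left, bf_add_left, bf_self, bf_self, bf_comm (P.dl s b') (π a'), hab', zero_add, add_zero,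
        if_neg one_ne_zero, if_neg one_ne_zero] at this
      have e : a' * z * (z * x * b') = a' * b' * x := by
        rw [show a' * z * (z * x * b') = a' * (z * z) * (x * b') by group, P.h.zz, mul_one, ← P.h'.es.comm b' hb',
          ← mul_assoc]
      rwa [e] at this
    rintro v (rfl | rfl | rfl | rfl)
    exacts [by rw [mul_one], hz, hx, hzx]
  have key : c * (a * b) * c⁻¹ = c * a * c⁻¹ * (c * b * c⁻¹) := by group
  refine (isConj_iff.mpr ⟨c, key⟩).trans ?_
  rw [hub]
  refine IsConj.symm ?_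
  rcases P.h.π_eq ha' (P.h.nor_mem hcz ha) hca.symm with e | e <;> rw [e]
  · rw [← mul_assoc]; exact habs u hu
  · have := habs (z * u) (mul_mem P.zU hu)
    rwa [show a' * z * (b' * u) = a' * (z * b') * u by group, ← hbz', show a' * (b' * z) * u = a' * b' * (z * u) by group]

/-- At most two classes of involutions. -/
theorem classify (hs : s ∈ Q) (hsp : bf (π s) (π x) = 1) {t : G} (ht : P.Typ s t) {y : G} (hyy : y * y = 1)
    (hy1 : y ≠ 1) : IsConj z y ∨ IsConj t y := by
  obtain ⟨g, hgz⟩ := P.h.exists_conj_mem_C hyy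
  have hy' : IsConj (g * y * g⁻¹) y := (isConj_iff.mpr ⟨g, rfl⟩ : IsConj y (g * y * g⁻¹)).symm
  have hy2 : g * y * g⁻¹ * (g * y * g⁻¹) = 1 := by
    rw [show g * y * g⁻¹ * (g * y * g⁻¹) = g * (y * y) * g⁻¹ by group, hyy, mul_one, mul_inv_cancel]
  have hy3 : g * y * g⁻¹ ≠ 1 := fun e => hy1 (conj_eq_one_iff.mp e)
  generalize g * y * g⁻¹ = y0 at hgz hy' hy2 hy3
  by_cases hQ : y0 ∈ Q
  · exact Or.inl ((P.h.isConj_Q hQ hy2 hy3).trans hy')
  obtain ⟨x1, hx1, hc1, hperp⟩ := P.h.exists_point hgz hy2 hQ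
  obtain ⟨c, hcz, hcx⟩ := P.h.trans_S hx1 P.memS
  have hy1' : IsConj (c * y0 * c⁻¹) y := ((isConj_iff.mpr ⟨c, rfl⟩ : IsConj y0 (c * y0 * c⁻¹)).symm).trans hy'
  have hz' : c * y0 * c⁻¹ * z = z * (c * y0 * c⁻¹) :=
    Commute.mul_left (Commute.mul_left hcz hgz) (Commute.inv_left hcz)
  have hx' : c * y0 * c⁻¹ * x = x * (c * y0 * c⁻¹) := by
    rw [← hcx, show c * y0 * c⁻¹ * (c * x1 * c⁻¹) = c * (y0 * x1) * c⁻¹ by group, hc1]; group
  have hπx : π x = (M c).1 (π x1) := by rw [← hcx, P.h.M_act c hcz x1 hx1.1]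
  obtain ⟨a, b, ha, hax, hb, hbz, he⟩ := P.decompose hs hsp hz' hx' fun v hv => by
    obtain ⟨w, rfl⟩ := (M c).1.surjective v
    rw [hπx] at hv ⊢
    rw [bf_map] at hv
    have e := (hperp w hv).map (M c)
    rw [P.h.M_mul _ _ (Commute.mul_left hcz hgz) (Commute.inv_left hcz), P.h.M_mul _ _ hcz hgz, P.h.M_inv hcz]
    show Eqp _ _ ((M c).1 ((M y0).1 ((M c).1.symm ((M c).1 w))))
    rw [LinearEquiv.symm_apply_apply]
    exact e
  rw [he] at hy1'
  rcases P.invol_cases hs hsp ha hax hb hbz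
      (by rw [← he, show c * y0 * c⁻¹ * (c * y0 * c⁻¹) = c * (y0 * y0) * c⁻¹ by group, hy2, mul_one, mul_inv_cancel])
      (by rw [← he]; exact fun e => hy3 (conj_eq_one_iff.mp e)) with e | e
  · exact Or.inl (e.trans hy1')
  · exact Or.inr ((P.typ_conj hs hsp ht e).trans hy1')

end Pr

end CfsgLib.SuzType
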