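import Cfsg.Agent.Lib.SuzType.Space

/-!
Transitivity and small facts in the elliptic space of dimension six over two elements.
-/

set_option autoImplicit false
set_option maxRecDepth 20000
set_option synthInstance.maxSize 2048
set_option synthInstance.maxHeartbeats 200000

namespace CfsgLib.SuzType

open QuadraticMap Module CfsgLib.WittExtension CfsgLib.SpinorNorm

/-- The polar form. -/
abbrev bf (u v : V) : F2 := polar qf u v

theorem bf_comm (u v : V) : bf u v = bf v u := polar_comm _ u v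
theorem bf_add_left (u u' v : V) : bf (u + u') v = bf u v + bf u' v := polar_add_left qf u u' v
theorem bf_add_right (u v v' : V) : bf u (v + v') = bf u v + bf u v' := polar_add_right qf u v v'
theorem bf_self (u : V) : bf u u = 0 := by
  show polar qf u u = 0
  rw [polar_self, two_nsmul]
  exact (show ∀ a : F2, a + a = 0 by decide) _
theorem bf_zero_left (v : V) : bf 0 v = 0 := polar_zero_left qf v
theorem bf_zero_right (v : V) : bf v 0 = 0 := by rw [bf_comm, bf_zero_left]
theorem qf_add (u v : V) : qf (u + v) = qf u + qf v + bf u v := QuadraticMap.map_add qf u v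

theorem bf_map (g : O6) (u v : V) : bf (g.1 u) (g.1 v) = bf u v := by
  show polar qf (g.1 u) (g.1 v) = polar qf u v
  rw [polar, polar, ← map_add, g.2, g.2, g.2]

theorem bf_eq_one {u v : V} (h : bf u v ≠ 0) : bf u v = 1 := (F2_cases _).resolve_left h

theorem exists_dual (ψ : V →ₗ[F2] F2) : ∃ φ : V, ∀ v, ψ v = bf v φ := by
  refine ⟨(LinearMap.BilinForm.toDual (polarBilin qf) qf_nondeg).symm ψ, fun v => ?_⟩
  rw [bf_comm]
  exact (LinearMap.BilinForm.apply_toDual_symm_apply (hB := qf_nondeg) ψ v).symm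

/-- A point. -/
def e0 : V := Pi.single (.inl (.inl 0)) 1
/-- A second point. -/
def e1 : V := Pi.single (.inl (.inl 1)) 1
/-- The elliptic pair. -/
def d0 : V := Pi.single (.inr 0) 1
/-- The elliptic pair. -/
def d1 : V := Pi.single (.inr 1) 1
/-- A vector orthogonal to the standard triple. -/
def u0 : V := Pi.single (.inl (.inl 1)) 1 + Pi.single (.inl (.inr 1)) 1

/-! ### Facts at the standard point -/

theorem std_facts : qf e0 = 0 ∧ qf e1 = 0 ∧ qf d0 = 1 ∧ qf d1 = 1 ∧ qf u0 = 1 ∧ bf e0 e1 = 0 ∧ bf e0 d0 = 0 ∧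
    bf e0 d1 = 0 ∧ bf d0 d1 = 1 ∧ bf e0 u0 = 0 ∧ bf d0 u0 = 0 ∧ bf d1 u0 = 0 ∧ bf e1 d0 = 0 ∧ e0 ≠ 0 ∧ e1 ≠ 0 ∧
    e1 ≠ e0 := by
  decide +kernel

theorem line_choice : ∀ w : V, qf w = 0 → bf e0 w = 0 → w = 0 ∨ w = e0 ∨
    ∃ w' : V, qf w' = 0 ∧ bf e0 w' = 0 ∧ w' ≠ 0 ∧ w' ≠ e0 ∧ w' ≠ w ∧ w' ≠ w + e0 := by
  decide +kernel

theorem witt_index : ∀ v w : V, qf v = 0 → qf w = 0 → bf e0 v = 0 → bf e0 w = 0 → bf v w = 0 →
    v = 0 ∨ v = e0 ∨ w = 0 ∨ w = e0 ∨ w = v ∨ w = v + e0 := by
  decide +kernel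

theorem double_perp : ∀ v : V, bf e0 v = 0 →
    (∀ w : V, bf e0 w = 0 → bf d0 w = 0 → bf d1 w = 0 → bf v w = 0) →
    v = 0 ∨ v = e0 ∨ v = d0 ∨ v = d0 + e0 ∨ v = d1 ∨ v = d1 + e0 ∨ v = d0 + d1 ∨ v = d0 + d1 + e0 := by
  decide +kernel

theorem only_line : ∀ v : V, bf e0 v = 0 → (v = 0 ∨ v = e0 ∨ v = e1 ∨ v = e1 + e0) ∨
    ∃ a b : V, qf a = 1 ∧ qf b = 1 ∧ bf e0 a = 0 ∧ bf e1 a = 0 ∧ bf e0 b = 0 ∧ bf e1 b = 0 ∧
      v + bf v b • b + bf (v + bf v b • b) a • a ≠ v ∧ v + bf v b • b + bf (v + bf v b • b) a • a ≠ v + e0 := by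
  decide +kernel

theorem count_targets : (Finset.univ.filter fun w : V => qf w = 0 ∧ bf e0 w = 1).card = 16 := by decide +kernel

theorem count_pairs :
    (Finset.univ.filter fun p : V × V => qf p.1 = 0 ∧ p.1 ≠ 0 ∧ qf p.2 = 1 ∧ bf p.1 p.2 = 0).card = 540 := by
  decide +kernel

/-! ### Reflections -/

/-- The reflection in a vector of norm one. -/
noncomputable def tr (a : V) (ha : qf a = 1) : O6 := refl qf (v := a) (by rw [ha]; exact one_ne_zero)

theorem tr_apply (a : V) (ha : qf a = 1) (v : V) : (tr a ha).1 v = v + bf v a • a := by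
  rw [tr, refl_apply, ha]
  rw [inv_one, one_mul, polar_comm, (show ∀ c : F2, -c = c by decide)]

theorem tr_not_mem (a : V) (ha : qf a = 1) : tr a ha ∉ Om := fun h => by
  have := MonoidHom.mem_ker.mp (Abelianization.commutator_subset_ker (dicksonHom qf qf_nondeg closure_refl6) h)
  rw [tr, dicksonHom_refl] at this
  exact absurd this (by decide)

theorem tr_mul_mem (a b : V) (ha : qf a = 1) (hb : qf b = 1) : tr a ha * tr b hb ∈ Om :=
  (Subgroup.mul_mem_iff_of_index_two index_Om).mpr (iff_of_false (tr_not_mem a ha) (tr_not_mem b hb))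

/-! ### Moving configurations -/

theorem move {n : ℕ} (f f' : Fin n → V)
    (hf : ∀ c : Fin n → F2, Fintype.linearCombination F2 f c = 0 → c = 0)
    (hf' : ∀ c : Fin n → F2, Fintype.linearCombination F2 f' c = 0 → c = 0)
    (hq : ∀ c : Fin n → F2, qf (Fintype.linearCombination F2 f c) = qf (Fintype.linearCombination F2 f' c)) :
    ∃ g : O6, ∀ i, g.1 (f i) = f' i := by
  classical
  set φ := Fintype.linearCombination F2 f
  set φ' := Fintype.linearCombination F2 f'
  have hφ : Function.Injective φ := (injective_iff_map_eq_zero φ).mpr hf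
  have hφ' : Function.Injective φ' := (injective_iff_map_eq_zero φ').mpr hf'
  let R := LinearEquiv.ofInjective φ hφ
  obtain ⟨g, hg, hgX⟩ := quad_extend qf qf_nondeg (LinearMap.range φ) (φ'.comp R.symm.toLinearMap)
    (hφ'.comp R.symm.injective) (fun x => by
      obtain ⟨c, rfl⟩ := R.surjective x
      show qf (φ' (R.symm (R c))) = qf (φ c)
      rw [R.symm_apply_apply, hq])
  refine ⟨⟨g, hg⟩, fun i => ?_⟩
  have := hgX (R (Pi.single i 1))
  simp only [LinearMap.comp_apply, LinearEquiv.coe_coe, R.symm_apply_apply] at this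
  rw [show ((R (Pi.single i 1) : LinearMap.range φ) : V) = φ (Pi.single i 1) from rfl] at this
  simp only [φ, φ', Fintype.linearCombination_apply_single, one_smul] at this
  exact this

/-- A map to a standard configuration can be taken in the derived group. -/
theorem move_mem {n : ℕ} {f' : Fin n → V} {g : O6} {f : Fin n → V} (hg : ∀ i, g.1 (f i) = f' i)
    {a : V} (ha : qf a = 1) (hfix : ∀ i, bf (f' i) a = 0) : ∃ h ∈ Om, ∀ i, h.1 (f i) = f' i := by
  by_cases hm : g ∈ Om
  · exact ⟨g, hm, hg⟩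
  refine ⟨tr a ha * g, (Subgroup.mul_mem_iff_of_index_two index_Om).mpr (iff_of_false (tr_not_mem a ha) hm), fun i => ?_⟩
  show (tr a ha).1 (g.1 (f i)) = f' i
  rw [hg, tr_apply, hfix, zero_smul, add_zero]

theorem std_one {p : V} (hq : qf p = 0) (hp : p ≠ 0) : ∃ g ∈ Om, g.1 p = e0 := by
  obtain ⟨q0, -, -, -, q4, -, -, -, -, b9, -, -, -, n0, -, -⟩ := std_facts
  have hind : ∀ v : V, v ≠ 0 → ∀ c : Fin 1 → F2, Fintype.linearCombination F2 ![v] c = 0 → c = 0 := by
    intro v hv c hc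
    rw [Fintype.linearCombination_apply, Fin.sum_univ_one] at hc
    funext i
    rw [Fin.fin_one_eq_zero i]
    exact (smul_eq_zero.mp hc).resolve_right hv
  obtain ⟨g, hg⟩ := move ![p] ![e0] (hind p hp) (hind e0 n0) fun c => by
    simp only [Fintype.linearCombination_apply, Fin.sum_univ_one, Matrix.cons_val_fin_one, QuadraticMap.map_smul, hq, q0]
  obtain ⟨h, hh, hfix⟩ := move_mem hg q4 fun i => by
    rw [Fin.fin_one_eq_zero i]; exact b9
  exact ⟨h, hh, hfix 0⟩

theorem std_two {p w : V} (hq : qf p = 0) (hp : p ≠ 0) (hw : qf w = 0) (hb : bf p w = 0) (hw0 : w ≠ 0)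
    (hne : w ≠ p) : ∃ g ∈ Om, g.1 p = e0 ∧ g.1 w = e1 := by
  obtain ⟨q0, q1, q2, -, -, b5, b6, -, -, -, -, -, b12, n0, n1, n2⟩ := std_facts
  have hind : ∀ v u : V, v ≠ 0 → u ≠ 0 → u ≠ v →
      ∀ c : Fin 2 → F2, Fintype.linearCombination F2 ![v, u] c = 0 → c = 0 := by
    intro v u hv hu hvu c hc
    rw [Fintype.linearCombination_apply, Fin.sum_univ_two] at hc
    simp only [Matrix.cons_val_zero, Matrix.cons_val_one] at hc
    rcases F2_cases (c 0) with h0 | h0 <;> rcases F2_cases (c 1) with h1 | h1 <;> rw [h0, h1] at hc <;>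
      simp only [zero_smul, one_smul, zero_add, add_zero] at hc
    · funext i; fin_cases i <;> assumption
    · exact absurd hc hu
    · exact absurd hc hv
    · exact absurd (by rw [← add_zero u, ← hc, add_comm v u, ← add_assoc, V_add_self, zero_add]) hvu
  obtain ⟨g, hg⟩ := move ![p, w] ![e0, e1] (hind p w hp hw0 hne) (hind e0 e1 n0 n1 n2) fun c => by
    simp only [Fintype.linearCombination_apply, Fin.sum_univ_two, Matrix.cons_val_zero, Matrix.cons_val_one, qf_add,
      QuadraticMap.map_smul, polar_smul_left, polar_smul_right, hq, q0, hw, q1, hb, b5]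
  obtain ⟨h, hh, hfix⟩ := move_mem hg q2 fun i => by
    fin_cases i
    · exact b6
    · exact b12
  exact ⟨h, hh, hfix 0, hfix 1⟩

theorem std_pair {p a b : V} (hq : qf p = 0) (hp : p ≠ 0) (ha : qf a = 1) (hb : qf b = 1) (hpa : bf p a = 0)
    (hpb : bf p b = 0) (hab : bf a b = 1) : ∃ g ∈ Om, g.1 p = e0 ∧ g.1 a = d0 ∧ g.1 b = d1 := by
  obtain ⟨q0, -, q2, q3, q4, -, b6, b7, b8, b9, b10, b11, -, n0, -, -⟩ := std_facts
  have hind : ∀ q u v : V, q ≠ 0 → bf q u = 0 → bf q v = 0 → bf u v = 1 →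
      ∀ c : Fin 3 → F2, Fintype.linearCombination F2 ![q, u, v] c = 0 → c = 0 := by
    intro q u v hq hu hv huv c hc
    rw [Fintype.linearCombination_apply, Fin.sum_univ_three] at hc
    simp only [Matrix.cons_val_zero, Matrix.cons_val_one, Matrix.cons_val_two, Matrix.tail_cons,
      Matrix.head_cons] at hc
    have h1 := congrArg (fun w => bf w v) hc
    simp only [bf_add_left, polar_smul_left, hv, huv, bf_self, bf_zero_left, smul_eq_mul] at h1
    have h2 := congrArg (fun w => bf w u) hc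
    simp only [bf_add_left, polar_smul_left, hu, bf_comm v u, huv, bf_self, bf_zero_left, smul_eq_mul] at h2
    simp only [mul_zero, mul_one, zero_add, add_zero] at h1 h2
    rw [h1, h2] at hc
    simp only [zero_smul, add_zero] at hc
    have h0 := (smul_eq_zero.mp hc).resolve_right hq
    funext i; fin_cases i <;> assumption
  obtain ⟨g, hg⟩ := move ![p, a, b] ![e0, d0, d1] (hind p a b hp hpa hpb hab) (hind e0 d0 d1 n0 b6 b7 b8) fun c => by
    simp only [Fintype.linearCombination_apply, Fin.sum_univ_three, Matrix.cons_val_zero, Matrix.cons_val_one,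
      Matrix.cons_val_two, Matrix.tail_cons, Matrix.head_cons, qf_add, bf_add_left,
      QuadraticMap.map_smul, polar_smul_left, polar_smul_right, hq, q0, ha, q2, hb, q3, hpa, b6, hpb, b7, hab, b8]
  obtain ⟨h, hh, hfix⟩ := move_mem hg q4 fun i => by
    fin_cases i
    · exact b9
    · exact b10
    · exact b11
  exact ⟨h, hh, hfix 0, hfix 1, hfix 2⟩

theorem map_inj_back {g : O6} {u v : V} (h : g.1 u = g.1 v) : u = v := g.1.injective h

end CfsgLib.SuzType
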