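import Cfsg.Agent.Lib.SuzType.Setup
import Cfsg.Agent.Lib.SuzType.Linear
import Cfsg.Agent.Lib.LargeExtra.Apps

/-!
Groups of Suzuki sporadic type: two commuting conjugates of the central involution and their extraspecial groups.
-/

set_option autoImplicit false
set_option linter.unusedSectionVars false

namespace CfsgLib.SuzType

open QuadraticMap CfsgLargeExtra
open CfsgLib.HallJankoType (mem_cent conj_fix_iff)

universe u

variable {G : Type u} [Group G] [Finite G] {z : G} {Q : Subgroup G} {π : G → V} {M : G → O6}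

namespace ST

variable (h : ST z Q π M)
include h

theorem zz : z * z = 1 := h.es.zz

theorem nor_mem {c q : G} (hc : c * z = z * c) (hq : q ∈ Q) : c * q * c⁻¹ ∈ Q := h.es.nor c hc q hq

theorem π_one : π 1 = 0 := by
  have := h.π_mul 1 (one_mem _) 1 (one_mem _)
  rwa [mul_one, left_eq_add] at this

theorem π_z : π z = 0 := by
  have hzq : qf (π z) = 0 := (h.sq z h.es.mem).mp h.zz
  obtain ⟨φ, hφ⟩ : ∃ φ : V, φ = π z := ⟨_, rfl⟩
  have hall : ∀ v, bf v (π z) = 0 := fun v => by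
    obtain ⟨a, ha, rfl⟩ := h.π_surj v
    exact (h.comm a ha z h.es.mem).mp (h.es.comm a ha)
  exact qf_nondeg.2 (π z) fun v => hall v

theorem π_inv {a : G} (ha : a ∈ Q) : π a⁻¹ = π a := by
  have := h.π_mul a ha a⁻¹ (inv_mem ha)
  rw [mul_inv_cancel, h.π_one] at this
  rw [← add_zero (π a⁻¹), ← V_add_self (π a), ← add_assoc, add_comm (π a⁻¹) (π a), ← this, zero_add]

theorem π_eq {a b : G} (ha : a ∈ Q) (hb : b ∈ Q) (e : π a = π b) : b = a ∨ b = a * z := by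
  have hab : π (a⁻¹ * b) = 0 := by rw [h.π_mul _ (inv_mem ha) _ hb, h.π_inv ha, e, V_add_self]
  rcases h.π_ker _ (mul_mem (inv_mem ha) hb) hab with e' | e'
  · exact Or.inl (inv_mul_eq_one.mp e').symm
  · exact Or.inr (inv_mul_eq_iff_eq_mul.mp e')

theorem π_mul_z {a : G} (ha : a ∈ Q) : π (a * z) = π a := by rw [h.π_mul a ha z h.es.mem, h.π_z, add_zero]

theorem conj_Q {q a : G} (hq : q ∈ Q) (ha : a ∈ Q) :
    q * a * q⁻¹ = if bf (π q) (π a) = 0 then a else a * z := by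
  split_ifs with h0
  · exact conj_fix_iff.mpr ((h.comm q hq a ha).mpr h0)
  · exact (h.es.conj_cases hq ha).resolve_left fun e => h0 ((h.comm q hq a ha).mp (conj_fix_iff.mp e))

theorem M_one : M 1 = 1 := (h.M_ker 1 (by simp)).mpr (one_mem _)

theorem M_Q {q : G} (hq : q ∈ Q) : M q = 1 := (h.M_ker q (h.es.comm q hq)).mpr hq

theorem M_inv {c : G} (hc : c * z = z * c) : M c⁻¹ = (M c)⁻¹ := by
  refine eq_inv_of_mul_eq_one_left ?_
  rw [← h.M_mul _ _ (Commute.inv_left hc) hc, inv_mul_cancel, h.M_one]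

/-- The noncentral involutions of `Q`. -/
def S (_h : ST z Q π M) : Set G := {p | p ∈ Q ∧ p * p = 1 ∧ π p ≠ 0}

theorem mem_S_of {p : G} (hp : p ∈ Q) (hpp : p * p = 1) (h1 : p ≠ 1) (hz : p ≠ z) : p ∈ h.S :=
  ⟨hp, hpp, fun e => (h.π_ker p hp e).elim h1 hz⟩

theorem trans_S {a b : G} (ha : a ∈ h.S) (hb : b ∈ h.S) : ∃ c : G, c * z = z * c ∧ c * a * c⁻¹ = b := by
  obtain ⟨g, hg, hga⟩ := std_one ((h.sq a ha.1).mp ha.2.1) ha.2.2
  obtain ⟨k, hk, hkb⟩ := std_one ((h.sq b hb.1).mp hb.2.1) hb.2.2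
  obtain ⟨c, hc, hcM⟩ := h.M_surj (k⁻¹ * g) (mul_mem (inv_mem hk) hg)
  have hπ : π (c * a * c⁻¹) = π b := by
    rw [h.M_act c hc a ha.1, hcM]
    show k.1.symm (g.1 (π a)) = π b
    rw [hga, ← hkb, LinearEquiv.symm_apply_apply]
  rcases h.π_eq (h.nor_mem hc ha.1) hb.1 hπ with e | e
  · exact ⟨c, hc, e.symm⟩
  · obtain ⟨q, hq, hqb⟩ : ∃ q ∈ Q, bf (π q) (π (c * a * c⁻¹)) ≠ 0 := by
      by_contra hall
      push Not at hall
      refine hb.2.2 (hπ ▸ qf_nondeg.2 _ fun v => ?_)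
      obtain ⟨q, hq, rfl⟩ := h.π_surj v
      exact hall q hq
    refine ⟨q * c, Commute.mul_left (h.es.comm q hq) hc, ?_⟩
    have := h.conj_Q hq (h.nor_mem hc ha.1)
    rw [if_neg hqb] at this
    rw [show q * c * a * (q * c)⁻¹ = q * (c * a * c⁻¹) * q⁻¹ by group, this, e]

theorem fused_S : ∃ g : G, g * z * g⁻¹ ∈ h.S := by
  obtain ⟨g, hg, hne⟩ := h.fused
  exact ⟨g, h.mem_S_of hg (h.es.cj g).zz (h.es.cj g).ne hne⟩

theorem isConj_S {p : G} (hp : p ∈ h.S) : IsConj z p := by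
  obtain ⟨g, hg⟩ := h.fused_S
  obtain ⟨c, -, hcp⟩ := h.trans_S hg hp
  exact (isConj_iff.mpr ⟨g, rfl⟩).trans (isConj_iff.mpr ⟨c, hcp⟩)

theorem isConj_Q {p : G} (hp : p ∈ Q) (hpp : p * p = 1) (h1 : p ≠ 1) : IsConj z p := by
  by_cases hz : p = z
  · exact hz ▸ IsConj.refl z
  · exact h.isConj_S (h.mem_S_of hp hpp h1 hz)

theorem conjBy (g : G) :
    ST (g * z * g⁻¹) (CfsgLargeExtra.cj g Q) (fun a => π (g⁻¹ * a * g)) (fun a => M (g⁻¹ * a * g)) := by
  have key : ∀ a : G, a * (g * z * g⁻¹) = g * z * g⁻¹ * a → g⁻¹ * a * g * z = z * (g⁻¹ * a * g) := fun a ha => by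
    calc g⁻¹ * a * g * z = g⁻¹ * (a * (g * z * g⁻¹)) * g := by group
      _ = g⁻¹ * (g * z * g⁻¹ * a) * g := by rw [ha]
      _ = z * (g⁻¹ * a * g) := by group
  have back : ∀ {a : G}, a ∈ CfsgLargeExtra.cj g Q → g⁻¹ * a * g ∈ Q := fun {a} ha => mem_cj.mp ha
  refine ⟨h.es.cj g, ?_, fun a ha b hb => ?_, fun a ha e => ?_, fun v => ?_, fun a ha => ?_, fun a ha b hb => ?_,
    fun a b ha hb => ?_, fun c hc a ha => ?_, fun c hc => (h.M_ker _ (key c hc)).trans mem_cj.symm,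
    fun c hc => h.M_mem _ (key c hc), fun k hk => ?_, ?_⟩
  · show Nat.card ↥(Q.map (MulAut.conj g).toMonoidHom) = 128
    rw [Subgroup.card_map_of_injective (f := (MulAut.conj g).toMonoidHom) (MulAut.conj g).injective, h.card]
  · show π (g⁻¹ * (a * b) * g) = _
    rw [show g⁻¹ * (a * b) * g = (g⁻¹ * a * g) * (g⁻¹ * b * g) by group, h.π_mul _ (back ha) _ (back hb)]
  · rcases h.π_ker _ (back ha) e with e' | e'
    · left; rw [show a = g * (g⁻¹ * a * g) * g⁻¹ by group, e']; group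
    · right; rw [show a = g * (g⁻¹ * a * g) * g⁻¹ by group, e']
  · obtain ⟨a, ha, rfl⟩ := h.π_surj v
    exact ⟨g * a * g⁻¹, conj_mem_cj ha, by simp [mul_assoc]⟩
  · rw [← h.sq _ (back ha), show g⁻¹ * a * g * (g⁻¹ * a * g) = g⁻¹ * (a * a) * g⁻¹⁻¹ by group, conj_eq_one_iff]
  · rw [← h.comm _ (back ha) _ (back hb), show g⁻¹ * a * g * (g⁻¹ * b * g) = g⁻¹ * (a * b) * g⁻¹⁻¹ by group,
      show g⁻¹ * b * g * (g⁻¹ * a * g) = g⁻¹ * (b * a) * g⁻¹⁻¹ by group, mul_left_inj, mul_right_inj]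
  · show M (g⁻¹ * (a * b) * g) = _
    rw [show g⁻¹ * (a * b) * g = (g⁻¹ * a * g) * (g⁻¹ * b * g) by group, h.M_mul _ _ (key a ha) (key b hb)]
  · show π (g⁻¹ * (c * a * c⁻¹) * g) = _
    rw [show g⁻¹ * (c * a * c⁻¹) * g = (g⁻¹ * c * g) * (g⁻¹ * a * g) * (g⁻¹ * c * g)⁻¹ by group,
      h.M_act _ (key c hc) _ (back ha)]
  · obtain ⟨a, ha, hak⟩ := h.M_surj k hk
    refine ⟨g * a * g⁻¹, ?_, by simp [mul_assoc, hak]⟩
    calc g * a * g⁻¹ * (g * z * g⁻¹) = g * (a * z) * g⁻¹ := by group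
      _ = g * (z * a) * g⁻¹ := by rw [ha]
      _ = g * z * g⁻¹ * (g * a * g⁻¹) := by group
  · obtain ⟨k, hk, hne⟩ := h.fused
    refine ⟨g * k * g⁻¹, ?_, fun e => hne ?_⟩
    · rw [mem_cj, show g⁻¹ * (g * k * g⁻¹ * (g * z * g⁻¹) * (g * k * g⁻¹)⁻¹) * g = k * z * k⁻¹ by group]
      exact hk
    · calc k * z * k⁻¹ = g⁻¹ * (g * k * g⁻¹ * (g * z * g⁻¹) * (g * k * g⁻¹)⁻¹) * g := by group
        _ = g⁻¹ * (g * z * g⁻¹) * g := by rw [e]
        _ = z := by group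

/-- The relation of lying in the extraspecial group of each other is symmetric. -/
theorem symm_mem {g : G} (hg : g * z * g⁻¹ ∈ Q) : z ∈ CfsgLargeExtra.cj g Q :=
  h.es.symm_mem hg fun _ => h.es.exists_pair (by rw [h.card]; norm_num) hg (h.es.cj g).zz

theorem symm_iff {g : G} : g * z * g⁻¹ ∈ Q ↔ z ∈ CfsgLargeExtra.cj g Q := by
  refine ⟨h.symm_mem, fun hz => ?_⟩
  have h' := h.conjBy g
  have e : g⁻¹ * (g * z * g⁻¹) * g⁻¹⁻¹ ∈ CfsgLargeExtra.cj g Q := by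
    rwa [show g⁻¹ * (g * z * g⁻¹) * g⁻¹⁻¹ = z by group]
  have h2 := h'.symm_mem e
  rw [CfsgLargeExtra.cj_cj, inv_mul_cancel] at h2
  rw [mem_cj] at h2
  simpa using h2

/-- Every involution is conjugate into `C(z)`. -/
theorem exists_conj_mem_C {y : G} (hy : y * y = 1) : ∃ g : G, g * y * g⁻¹ * z = z * (g * y * g⁻¹) := by
  classical
  haveI : Fact (Nat.Prime 2) := ⟨Nat.prime_two⟩
  obtain ⟨T⟩ : Nonempty (Sylow 2 ↥(Subgroup.centralizer ({z} : Set G))) := inferInstance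
  set T' := (T : Subgroup ↥(Subgroup.centralizer ({z} : Set G))).map (Subgroup.subtype _) with hT'
  have hTC : ∀ g ∈ T', g * z = z * g := by
    rintro _ ⟨w, -, rfl⟩; exact mem_cent.mp w.2
  have hTp : IsPGroup 2 ↥T' := T.2.map _
  have hQC : Q ≤ Subgroup.centralizer ({z} : Set G) := fun q hq => mem_cent.mpr (h.es.comm q hq)
  have hQT : Q ≤ T' := by
    intro q hq
    have hnorm : (Q.subgroupOf (Subgroup.centralizer ({z} : Set G))).Normal :=
      ⟨fun a ha g => h.nor_mem (mem_cent.mp g.2) ha⟩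
    have hp : IsPGroup 2 ↥(Q.subgroupOf (Subgroup.centralizer ({z} : Set G))) :=
      (IsPGroup.of_card (n := 7) (by rw [h.card]; rfl) : IsPGroup 2 ↥Q).of_equiv
        (Subgroup.subgroupOfEquivOfLe hQC).symm
    exact ⟨⟨q, hQC hq⟩, hp.le_sylow_of_normal T hq, rfl⟩
  obtain ⟨P, hP⟩ := hTp.exists_le_sylow
  have heq : (P : Subgroup G) = T' := by
    by_contra hne
    have hlt : T' < (P : Subgroup G) := lt_of_le_of_ne hP (Ne.symm hne)
    haveI : Group.IsNilpotent ↥(P : Subgroup G) := P.2.isNilpotent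
    have hT'' : T'.subgroupOf (P : Subgroup G) < ⊤ := lt_top_iff_ne_top.mpr fun e =>
      hne (le_antisymm (Subgroup.subgroupOf_eq_top.mp e) hP)
    obtain ⟨⟨n, hnP⟩, hn, hnn⟩ := SetLike.exists_of_lt (Group.normalizerCondition_of_isNilpotent _ hT'')
    have hn'' : ∀ w ∈ T', n⁻¹ * w * n ∈ T' := fun w hw => by
      have := ((Subgroup.mem_normalizer_iff.mp (inv_mem hn)) ⟨w, hP hw⟩).mp hw
      have h2 : n⁻¹ * w * n⁻¹⁻¹ ∈ T' := this
      rwa [inv_inv] at h2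
    have hcase := h.es.cen (n * z * n⁻¹) fun q hq => by
      have h1 := hTC _ (hn'' q (hQT hq))
      calc n * z * n⁻¹ * q = n * (z * (n⁻¹ * q * n)) * n⁻¹ := by group
        _ = n * (n⁻¹ * q * n * z) * n⁻¹ := by rw [h1]
        _ = q * (n * z * n⁻¹) := by group
    have hnz : n * z = z * n := conj_fix_iff.mp
      (hcase.resolve_left fun e => h.es.ne (conj_eq_one_iff.mp e))
    set M' := ((P : Subgroup G).subgroupOf (Subgroup.centralizer ({z} : Set G)))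
    have hM : IsPGroup 2 ↥M' := P.2.comap_of_injective _ (Subgroup.subtype_injective _)
    have hle : (T : Subgroup ↥(Subgroup.centralizer ({z} : Set G))) ≤ M' := fun w hw => hP ⟨w, hw, rfl⟩
    have hMT := T.3 hM hle
    have hnM : (⟨n, mem_cent.mpr hnz⟩ : ↥(Subgroup.centralizer ({z} : Set G))) ∈ M' := hnP
    rw [hMT] at hnM
    exact hnn ⟨_, hnM, rfl⟩
  have hyp : IsPGroup 2 ↥(Subgroup.zpowers y) := by
    by_cases h1 : y = 1
    · subst h1
      exact (IsPGroup.of_bot (p := 2)).to_le (by rw [Subgroup.zpowers_one_eq_bot])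
    · exact IsPGroup.of_card (n := 1)
        (by rw [Nat.card_zpowers, orderOf_eq_prime (by rw [pow_two, hy]) h1, pow_one])
  obtain ⟨R, hR⟩ := hyp.exists_le_sylow
  obtain ⟨g, hg⟩ := MulAction.exists_smul_eq G R P
  refine ⟨g, hTC _ ?_⟩
  rw [← heq, ← hg, Sylow.coe_subgroup_smul]
  exact Subgroup.smul_mem_pointwise_smul y (MulAut.conj g) _ (hR (Subgroup.mem_zpowers y))

end ST

/-- Two commuting conjugates in each other's extraspecial groups. -/
structure Pr (z x : G) (Q Q' : Subgroup G) (π π' : G → V) (M M' : G → O6) : Prop where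
  h : ST z Q π M
  h' : ST x Q' π' M'
  hx : x ∈ Q
  hz : z ∈ Q'
  ne : x ≠ z

theorem ST.exists_pr (h : ST z Q π M) :
    ∃ (x : G) (Q' : Subgroup G) (π' : G → V) (M' : G → O6), Pr z x Q Q' π π' M M' := by
  obtain ⟨g, hg, hne⟩ := h.fused
  exact ⟨g * z * g⁻¹, CfsgLargeExtra.cj g Q, _, _, h, h.conjBy g, hg, h.symm_mem hg, hne⟩

variable {x : G} {Q' : Subgroup G} {π' : G → V} {M' : G → O6}

namespace Pr

variable (P : Pr z x Q Q' π π' M M')
include P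

theorem symm : Pr x z Q' Q π' π M' M := ⟨P.h', P.h, P.hz, P.hx, P.ne.symm⟩

theorem xx : x * x = 1 := P.h'.zz

theorem zx : z * x = x * z := (P.h.es.comm x P.hx).symm

theorem x1 : x ≠ 1 := P.h'.es.ne

theorem memS : x ∈ P.h.S := P.h.mem_S_of P.hx P.xx P.x1 P.ne

theorem p_ne : π x ≠ 0 := P.memS.2.2

theorem p_q : qf (π x) = 0 := (P.h.sq x P.hx).mp P.xx

theorem zx_ne : z * x ≠ 1 ∧ z * x ≠ z ∧ z * x ≠ x :=
  ⟨fun e => P.ne ((eq_inv_of_mul_eq_one_right e).trans (inv_eq_of_mul_eq_one_right P.h.zz)),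
    fun e => P.x1 (mul_eq_left.mp e), fun e => P.h.es.ne (mul_eq_right.mp e)⟩

omit P in
/-- The four group `{1, z, x, z * x}`. -/
def U (P : Pr z x Q Q' π π' M M') : Subgroup G := fourGroup z x P.h.zz P.xx P.zx

theorem mem_U {a : G} : a ∈ P.U ↔ a = 1 ∨ a = z ∨ a = x ∨ a = z * x := Iff.rfl

theorem zU : z ∈ P.U := Or.inr (Or.inl rfl)

theorem xU : x ∈ P.U := Or.inr (Or.inr (Or.inl rfl))

theorem U_symm {a : G} (ha : a ∈ P.symm.U) : a ∈ P.U := by
  rcases ha with rfl | rfl | rfl | rfl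
  exacts [one_mem _, P.xU, P.zU, mul_mem P.xU P.zU]

theorem U_central {a b : G} (ha : a ∈ P.U) (hbz : b * z = z * b) (hbx : b * x = x * b) : a * b = b * a := by
  rcases ha with rfl | rfl | rfl | rfl
  exacts [by simp, hbz.symm, hbx.symm, (Commute.mul_left hbz.symm hbx.symm : Commute (z * x) b)]

theorem U_le {a : G} (ha : a ∈ P.U) : a ∈ Q ∧ a * x = x * a ∧ a * a = 1 := by
  rcases ha with rfl | rfl | rfl | rfl
  · exact ⟨one_mem _, by simp, one_mul 1⟩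
  · exact ⟨P.h.es.mem, P.zx, P.h.zz⟩
  · exact ⟨P.hx, rfl, P.xx⟩
  · refine ⟨mul_mem P.h.es.mem P.hx, by rw [P.zx, mul_assoc, P.zx], ?_⟩
    rw [show z * x * (z * x) = z * (x * z) * x by group, ← P.zx,
      show z * (z * x) * x = z * z * (x * x) by group, P.h.zz, P.xx, mul_one]

theorem mem_U_iff {a : G} : a ∈ P.U ↔ a ∈ Q ∧ (π a = 0 ∨ π a = π x) := by
  constructor
  · rintro (rfl | rfl | rfl | rfl)
    · exact ⟨one_mem _, Or.inl P.h.π_one⟩
    · exact ⟨P.h.es.mem, Or.inl P.h.π_z⟩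
    · exact ⟨P.hx, Or.inr rfl⟩
    · exact ⟨mul_mem P.h.es.mem P.hx, Or.inr (by rw [P.h.π_mul _ P.h.es.mem _ P.hx, P.h.π_z, zero_add])⟩
  · rintro ⟨ha, e | e⟩
    · rcases P.h.π_ker a ha e with rfl | rfl
      exacts [one_mem _, P.zU]
    · rcases P.h.π_eq P.hx ha e.symm with rfl | rfl
      exacts [P.xU, mul_mem P.xU P.zU]

/-- Elements of `Q` commute with `x` when their coordinates are orthogonal to those of `x`. -/
theorem comm_x {a : G} (ha : a ∈ Q) : a * x = x * a ↔ bf (π a) (π x) = 0 := P.h.comm a ha x P.hx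

theorem exists_s : ∃ s ∈ Q, bf (π s) (π x) = 1 ∧ s * x * s⁻¹ = x * z := by
  obtain ⟨s, hs, hb⟩ : ∃ s ∈ Q, bf (π s) (π x) ≠ 0 := by
    by_contra hall
    push Not at hall
    refine P.p_ne (qf_nondeg.2 _ fun v => ?_)
    obtain ⟨q, hq, rfl⟩ := P.h.π_surj v
    exact hall q hq
  refine ⟨s, hs, bf_eq_one hb, ?_⟩
  rw [P.h.conj_Q hs P.hx, if_neg hb]

/-- Elements of the derived orthogonal group fixing the point lift to the centralizer of both involutions. -/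
theorem exists_lift {g : O6} (hg : g ∈ Om) (hp : g.1 (π x) = π x) :
    ∃ c : G, c * z = z * c ∧ c * x = x * c ∧ M c = g := by
  obtain ⟨c, hc, hM⟩ := P.h.M_surj g hg
  have hπ : π x = π (c * x * c⁻¹) := by rw [P.h.M_act c hc x P.hx, hM, hp]
  rcases P.h.π_eq P.hx (P.h.nor_mem hc P.hx) hπ with e | e
  · exact ⟨c, hc, conj_fix_iff.mp e, hM⟩
  · obtain ⟨s, hs, -, hsx⟩ := P.exists_s
    have hsz := P.h.es.comm s hs
    refine ⟨s * c, Commute.mul_left hsz hc, conj_fix_iff.mp ?_, by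
      rw [P.h.M_mul _ _ hsz hc, P.h.M_Q hs, one_mul, hM]⟩
    rw [show s * c * x * (s * c)⁻¹ = s * (c * x * c⁻¹) * s⁻¹ by group, e,
      show s * (x * z) * s⁻¹ = s * x * s⁻¹ * (s * z * s⁻¹) by group, hsx, conj_fix_iff.mpr hsz, mul_assoc, P.h.zz,
      mul_one]

theorem inter_sq {a : G} (ha : a ∈ Q) (ha' : a ∈ Q') : a * a = 1 := by
  rcases P.h.es.sq a ha with e | e
  · exact e
  · rcases P.h'.es.sq a ha' with e' | e'
    · exact e'
    · exact absurd (e'.symm.trans e) P.ne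

/-- The two extraspecial groups meet in the four group. -/
theorem inter {a : G} (ha : a ∈ Q) (ha' : a ∈ Q') : a ∈ P.U := by
  by_contra haU
  have haU' : π a ≠ 0 ∧ π a ≠ π x :=
    ⟨fun e => haU (P.mem_U_iff.mpr ⟨ha, Or.inl e⟩), fun e => haU (P.mem_U_iff.mpr ⟨ha, Or.inr e⟩)⟩
  have hwq : qf (π a) = 0 := (P.h.sq a ha).mp (P.inter_sq ha ha')
  have hwp : bf (π x) (π a) = 0 := by
    rw [bf_comm]; exact (P.comm_x ha).mp (P.h'.es.comm a ha')
  obtain ⟨g, hg, hgp⟩ := std_one P.p_q P.p_ne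
  have hw1 : qf (g.1 (π a)) = 0 := (g.2 _).trans hwq
  have hw2 : bf e0 (g.1 (π a)) = 0 := by rw [← hgp, bf_map, hwp]
  have hne1 : g.1 (π a) ≠ 0 := fun e => haU'.1 (g.1.map_eq_zero_iff.mp e)
  have hne2 : g.1 (π a) ≠ e0 := fun e => haU'.2 (map_inj_back (e.trans hgp.symm))
  rcases line_choice _ hw1 hw2 with e | e | ⟨w, hwq', hwb, hw0, hwe, hwa, hwa'⟩
  · exact hne1 e
  · exact hne2 e
  obtain ⟨h1, hh1, hh1p, hh1w⟩ := std_two std_facts.1 std_facts.2.2.2.2.2.2.2.2.2.2.2.2.2.1 hw1 hw2 hne1 hne2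
  obtain ⟨h2, hh2, hh2p, hh2w⟩ := std_two std_facts.1 std_facts.2.2.2.2.2.2.2.2.2.2.2.2.2.1 hwq' hwb hw0 hwe
  have hkm : g⁻¹ * h2⁻¹ * h1 * g ∈ Om := mul_mem (mul_mem (mul_mem (inv_mem hg) (inv_mem hh2)) hh1) hg
  have hkp : (g⁻¹ * h2⁻¹ * h1 * g).1 (π x) = π x := by
    show g.1.symm (h2.1.symm (h1.1 (g.1 (π x)))) = π x
    rw [hgp, hh1p, ← hh2p, LinearEquiv.symm_apply_apply, ← hgp, LinearEquiv.symm_apply_apply]
  obtain ⟨c, hcz, hcx, hcM⟩ := P.exists_lift hkm hkp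
  have hb : c * a * c⁻¹ ∈ Q := P.h.nor_mem hcz ha
  have hb' : c * a * c⁻¹ ∈ Q' := P.h'.nor_mem hcx ha'
  have hπb : g.1 (π (c * a * c⁻¹)) = w := by
    rw [P.h.M_act c hcz a ha, hcM]
    show g.1 (g.1.symm (h2.1.symm (h1.1 (g.1 (π a))))) = w
    rw [LinearEquiv.apply_symm_apply, hh1w, ← hh2w, LinearEquiv.symm_apply_apply]
  have hcomm : bf (g.1 (π a)) w = 0 := by
    rw [← hπb, bf_map]
    refine (P.h.comm a ha _ hb).mp ?_
    rcases P.h.es.conj_cases ha hb with e | e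
    · exact conj_fix_iff.mp e
    · rcases P.h'.es.conj_cases ha' hb' with e' | e'
      · exact conj_fix_iff.mp e'
      · exact absurd (mul_left_cancel (e'.symm.trans e)) P.ne
  rcases witt_index (g.1 (π a)) w hw1 hwq' hw2 hwb hcomm with e | e | e | e | e | e
  exacts [hne1 e, hne2 e, hw0 e, hwe e, hwa e, hwa' e]

end Pr

end CfsgLib.SuzType
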