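import Cfsg.Agent.Lib.SuzType.Pair

/-!
Groups of Suzuki sporadic type: the part at the second involution as transvections at the first.
-/

set_option autoImplicit false
set_option linter.unusedSectionVars false

namespace CfsgLib.SuzType

open QuadraticMap CfsgLargeExtra
open CfsgLib.HallJankoType (mem_cent conj_fix_iff)

universe u

variable {G : Type u} [Group G] [Finite G] {z x s : G} {Q Q' : Subgroup G} {π π' : G → V} {M M' : G → O6}

/-- Congruence modulo the point. -/
def Eqp (p v w : V) : Prop := w = v ∨ w = v + p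

theorem Eqp.refl (p v : V) : Eqp p v v := Or.inl rfl

theorem Eqp.symm {p v w : V} (h : Eqp p v w) : Eqp p w v := by
  rcases h with h | h
  · exact Or.inl h.symm
  · exact Or.inr (by rw [h, add_assoc, V_add_self, add_zero])

theorem Eqp.trans {p u v w : V} (h : Eqp p u v) (h' : Eqp p v w) : Eqp p u w := by
  rcases h with h | h <;> rcases h' with h' | h' <;> rw [h', h]
  exacts [Or.inl rfl, Or.inr rfl, Or.inr rfl, Or.inl (by rw [add_assoc, V_add_self, add_zero])]

theorem Eqp.add {p u v u' v' : V} (h : Eqp p u v) (h' : Eqp p u' v') : Eqp p (u + u') (v + v') := by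
  rcases h with h | h <;> rcases h' with h' | h' <;> rw [h', h]
  · exact Or.inl rfl
  · exact Or.inr (by abel)
  · exact Or.inr (by abel)
  · refine Or.inl ?_
    rw [show u + p + (u' + p) = u + u' + (p + p) by abel, V_add_self, add_zero]

theorem Eqp.bf_eq {p u v w : V} (h : Eqp p u v) (hw : bf w p = 0) : bf w v = bf w u := by
  rcases h with h | h <;> rw [h]
  rw [bf_add_right, hw, add_zero]

theorem Eqp.qf_eq {p u v : V} (h : Eqp p u v) (hp : qf p = 0) (hu : bf u p = 0) : qf v = qf u := by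
  rcases h with h | h <;> rw [h]
  rw [qf_add, hp, hu, add_zero, add_zero]

theorem Eqp.map {p u v : V} (g : O6) (h : Eqp p u v) : Eqp (g.1 p) (g.1 u) (g.1 v) := by
  rcases h with h | h <;> rw [h]
  exacts [Or.inl rfl, Or.inr (map_add _ _ _)]

namespace Pr

/-- The coordinates of the commutator with the moving element. -/
def dl (_P : Pr z x Q Q' π π' M M') (s b : G) : V := π (s * b * s⁻¹ * b⁻¹)

variable (P : Pr z x Q Q' π π' M M')
include P

theorem dl_eq (hs : s ∈ Q) {b : G} (hbz : b * z = z * b) : P.dl s b = π s + (M b).1 (π s) := by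
  show π (s * b * s⁻¹ * b⁻¹) = _
  have hq := P.h.nor_mem hbz (inv_mem hs)
  rw [show s * b * s⁻¹ * b⁻¹ = s * (b * s⁻¹ * b⁻¹) by group, P.h.π_mul s hs _ hq,
    P.h.M_act b hbz _ (inv_mem hs), P.h.π_inv hs]

theorem comm_mem {a b : G} (ha : a ∈ Q) (hax : a * x = x * a) (hb : b ∈ Q') (hbz : b * z = z * b) :
    a * b * a⁻¹ * b⁻¹ ∈ P.U := by
  refine P.inter ?_ ?_
  · rw [show a * b * a⁻¹ * b⁻¹ = a * (b * a⁻¹ * b⁻¹) by group]
    exact mul_mem ha (P.h.nor_mem hbz (inv_mem ha))
  · exact mul_mem (P.h'.nor_mem hax hb) (inv_mem hb)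

theorem fix_p {b : G} (hb : b ∈ Q') (hbz : b * z = z * b) : (M b).1 (π x) = π x := by
  rw [← P.h.M_act b hbz x P.hx, conj_fix_iff.mpr (P.h'.es.comm b hb)]

theorem perp_cases {b : G} (hb : b ∈ Q') (hbz : b * z = z * b) {v : V} (hv : bf v (π x) = 0) :
    Eqp (π x) v ((M b).1 v) := by
  obtain ⟨a, ha, rfl⟩ := P.h.π_surj v
  have hax := (P.comm_x ha).mpr hv
  have hu := P.comm_mem ha hax hb hbz
  have hu' := P.mem_U_iff.mp hu
  have e : π (a * b * a⁻¹ * b⁻¹) = π a + (M b).1 (π a) := by
    have hq := P.h.nor_mem hbz (inv_mem ha)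
    rw [show a * b * a⁻¹ * b⁻¹ = a * (b * a⁻¹ * b⁻¹) by group, P.h.π_mul a ha _ hq,
      P.h.M_act b hbz _ (inv_mem ha), P.h.π_inv ha]
  rw [e] at hu'
  rcases hu'.2 with h0 | h0
  · left
    rw [← add_zero ((M b).1 (π a)), ← V_add_self (π a), ← add_assoc, add_comm ((M b).1 (π a)), h0, zero_add]
  · right
    rw [← h0, ← add_assoc, V_add_self, zero_add]

theorem dl_perp (hs : s ∈ Q) {b : G} (hb : b ∈ Q') (hbz : b * z = z * b) : bf (P.dl s b) (π x) = 0 := by
  have e := bf_map (M b) (π s) (π x)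
  rw [P.fix_p hb hbz] at e
  rw [P.dl_eq hs hbz, bf_add_left, e]
  exact (show ∀ c : F2, c + c = 0 by decide) _

theorem act (hs : s ∈ Q) (hsp : bf (π s) (π x) = 1) {b : G} (hb : b ∈ Q') (hbz : b * z = z * b) {v : V}
    (hv : bf v (π x) = 0) : (M b).1 v = v + bf v (P.dl s b) • π x := by
  have hσ : (M b).1 (π s) = π s + P.dl s b := by
    rw [P.dl_eq hs hbz, ← add_assoc, V_add_self, zero_add]
  have e := bf_map (M b) v (π s)
  rcases P.perp_cases hb hbz hv with h | h <;> rw [h, hσ] at e <;> rw [h]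
  · rw [bf_add_right, add_eq_left] at e
    rw [e, zero_smul, add_zero]
  · have hd : bf (π x) (P.dl s b) = 0 := by rw [bf_comm, P.dl_perp hs hb hbz]
    rw [bf_add_left, bf_add_right, bf_add_right, hd, bf_comm (π x) (π s), hsp, add_zero, add_assoc, add_eq_left] at e
    rw [show bf v (P.dl s b) = 1 from (show ∀ c : F2, c + 1 = 0 → c = 1 by decide) _ e, one_smul]

/-- An isometry fixing the point and trivial on its perpendicular modulo it is fixed by one value. -/
theorem eq_of_radical {g k : O6} {σ : V} (hσp : bf σ (π x) = 1) (hgp : g.1 (π x) = π x) (hkp : k.1 (π x) = π x)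
    (hg : ∀ v, bf v (π x) = 0 → Eqp (π x) v (g.1 v)) (hk : ∀ v, bf v (π x) = 0 → Eqp (π x) v (k.1 v))
    (e : Eqp (π x) (g.1 σ) (k.1 σ)) : g = k := by
  have hpg : bf (π x) (g.1 σ) = 1 := by
    conv_lhs => rw [← hgp]
    rw [bf_map, bf_comm, hσp]
  have hσ : g.1 σ = k.1 σ := by
    rcases e with e | e
    · exact e.symm
    · exfalso
      have h1 : qf (k.1 σ) = qf (g.1 σ) := (k.2 σ).trans (g.2 σ).symm
      rw [e, qf_add, P.p_q, bf_comm, hpg, add_zero, add_eq_left] at h1
      exact one_ne_zero h1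
  refine Subtype.ext (LinearEquiv.ext fun v => ?_)
  have hperp : ∀ v, bf v (π x) = 0 → g.1 v = k.1 v := by
    intro v hv
    rcases (hg v hv).symm.trans (hk v hv) with e1 | e1
    · exact e1.symm
    · exfalso
      have h1 := bf_map g v σ
      have h2 := bf_map k v σ
      rw [← hσ, e1, bf_add_left, h1, hpg, add_eq_left] at h2
      exact one_ne_zero h2
  rcases F2_cases (bf v (π x)) with hv | hv
  · exact hperp v hv
  · have hv' : bf (v + σ) (π x) = 0 := by rw [bf_add_left, hv, hσp]; decide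
    have := hperp _ hv'
    rw [map_add, map_add, hσ] at this
    exact add_right_cancel this

theorem dl_mul (hs : s ∈ Q) {b b' : G} (hb : b ∈ Q') (hbz : b * z = z * b) (hb' : b' ∈ Q') (hbz' : b' * z = z * b') :
    Eqp (π x) (P.dl s b + P.dl s b') (P.dl s (b * b')) := by
  have h := P.perp_cases hb hbz (P.dl_perp hs hb' hbz')
  have e : P.dl s (b * b') = π s + ((M b).1 (π s) + (M b).1 (P.dl s b')) := by
    rw [P.dl_eq hs (Commute.mul_left hbz hbz'), P.h.M_mul _ _ hbz hbz', ← map_add, P.dl_eq hs hbz',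
      ← add_assoc (π s) (π s), V_add_self, zero_add]
    rfl
  rw [e, ← add_assoc, ← P.dl_eq hs hbz]
  exact (Eqp.refl _ _).add h

theorem dl_inj (hs : s ∈ Q) (hsp : bf (π s) (π x) = 1) {b : G} (hb : b ∈ Q') (hbz : b * z = z * b)
    (h0 : Eqp (π x) 0 (P.dl s b)) : b ∈ P.U := by
  refine P.inter ((P.h.M_ker b hbz).mp ?_) hb
  refine P.eq_of_radical hsp (P.fix_p hb hbz) rfl (fun v hv => P.perp_cases hb hbz hv) (fun v _ => Or.inl rfl) ?_
  show Eqp (π x) ((M b).1 (π s)) (π s)
  have := (Eqp.refl (π x) (π s)).add h0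
  rw [add_zero, P.dl_eq hs hbz, ← add_assoc, V_add_self, zero_add] at this
  exact this.symm

theorem dl_U (hs : s ∈ Q) {b : G} (hb : b ∈ P.U) : Eqp (π x) 0 (P.dl s b) := by
  have hu := P.U_le hb
  rw [P.dl_eq hs (P.h.es.comm b hu.1), P.h.M_Q hu.1]
  exact Or.inl (V_add_self _)

omit [Finite G] in
/-- The part at `x`. -/
def B (_P : Pr z x Q Q' π π' M M') : Subgroup G := Q' ⊓ Subgroup.centralizer ({z} : Set G)

theorem mem_B {b : G} : b ∈ P.B ↔ b ∈ Q' ∧ b * z = z * b :=
  Iff.trans Subgroup.mem_inf (and_congr Iff.rfl mem_cent)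

theorem card_A : Nat.card ↥(Q ⊓ Subgroup.centralizer ({x} : Set G) : Subgroup G) = 64 := by
  classical
  obtain ⟨s, hs, hsp, hsx⟩ := P.exists_s
  have e : ↥Q ≃ ↥(Q ⊓ Subgroup.centralizer ({x} : Set G) : Subgroup G) × Bool :=
    { toFun := fun q => if hq : (q : G) * x = x * q then (⟨q, q.2, mem_cent.mpr hq⟩, false)
        else (⟨s⁻¹ * q, Subgroup.mul_mem _ (Subgroup.inv_mem Q hs) q.2, mem_cent.mpr ((P.comm_x (mul_mem (inv_mem hs) q.2)).mpr (by
          rw [P.h.π_mul _ (inv_mem hs) _ q.2, P.h.π_inv hs, bf_add_left, hsp,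
            bf_eq_one (fun e => hq ((P.comm_x q.2).mpr e))]
          decide))⟩, true)
      invFun := fun w => if w.2 then ⟨s * w.1, mul_mem hs w.1.2.1⟩ else ⟨w.1, w.1.2.1⟩
      left_inv := fun q => by
        by_cases hq : (q : G) * x = x * q
        · simp [dif_pos hq]
        · simp [dif_neg hq]
      right_inv := by
        rintro ⟨⟨w, hw, hwx⟩, b⟩
        have hwx' := mem_cent.mp hwx
        cases b
        · simp [dif_pos hwx']
        · have hne : ¬ (s * w * x = x * (s * w)) := fun e' => by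
            rw [P.comm_x (mul_mem hs hw), P.h.π_mul _ hs _ hw, bf_add_left, hsp, (P.comm_x hw).mp hwx'] at e'
            exact one_ne_zero ((add_zero (1 : F2)).symm.trans e')
          simp [dif_neg hne] }
  have := Nat.card_congr e
  rw [P.h.card, Nat.card_prod, Nat.card_eq_fintype_card (α := Bool), Fintype.card_bool] at this
  omega

theorem card_B : Nat.card ↥P.B = 64 := P.symm.card_A

theorem dl_surj (hs : s ∈ Q) (hsp : bf (π s) (π x) = 1) {v : V} (hv : bf v (π x) = 0) :
    ∃ b : G, b ∈ Q' ∧ b * z = z * b ∧ Eqp (π x) v (P.dl s b) := by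
  classical
  set L : AddSubgroup V := AddSubgroup.zmultiples (π x) with hL
  have hmemL : ∀ w : V, w ∈ L ↔ w = 0 ∨ w = π x := by
    intro w
    constructor
    · rintro ⟨k, rfl⟩
      show k • π x = 0 ∨ k • π x = π x
      rcases Int.even_or_odd k with ⟨j, rfl⟩ | ⟨j, rfl⟩
      · left; rw [add_zsmul, V_add_self]
      · right; rw [add_zsmul, one_zsmul, two_mul, add_zsmul, V_add_self, zero_add]
    · rintro (rfl | rfl)
      exacts [zero_mem _, AddSubgroup.mem_zmultiples _]
  have hmk : ∀ {u w : V}, (u : V ⧸ L) = (w : V ⧸ L) ↔ Eqp (π x) u w := by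
    intro u w
    rw [QuotientAddGroup.eq, hmemL]
    have hn : -u = u := neg_eq_of_add_eq_zero_left (V_add_self u)
    rw [hn]
    constructor
    · rintro (e | e)
      · left; rw [← add_zero w, ← V_add_self u, ← add_assoc, add_comm w u, e, zero_add]
      · right; rw [← e, ← add_assoc, V_add_self, zero_add]
    · rintro (e | e)
      · left; rw [e, V_add_self]
      · right; rw [e, ← add_assoc, V_add_self, zero_add]
  let Φ : ↥P.B →* Multiplicative (V ⧸ L) := MonoidHom.mk' (fun b => Multiplicative.ofAdd ((P.dl s b : V) : V ⧸ L))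
    fun a b => congrArg Multiplicative.ofAdd <| by
      show _ = ((P.dl s (a : G) : V) : V ⧸ L) + ((P.dl s (b : G) : V) : V ⧸ L)
      rw [← QuotientAddGroup.mk_add]
      exact (hmk.mpr (P.dl_mul hs (P.mem_B.mp a.2).1 (P.mem_B.mp a.2).2 (P.mem_B.mp b.2).1 (P.mem_B.mp b.2).2)).symm
  have hker : Nat.card Φ.ker ≤ 4 := by
    have hinj : Function.Injective (fun k : Φ.ker => (⟨((k : ↥P.B) : G), P.dl_inj hs hsp (P.mem_B.mp k.1.2).1
        (P.mem_B.mp k.1.2).2 (hmk.mp (Multiplicative.ofAdd.injective (MonoidHom.mem_ker.mp k.2)).symm)⟩ : ↥P.U)) :=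
      fun a b e => Subtype.ext (Subtype.ext (congrArg (fun w : ↥P.U => (w : G)) e))
    refine le_trans (Nat.card_le_card_of_injective _ hinj) ?_
    have hs4 : Function.Surjective (fun i : Fin 4 => (⟨![1, z, x, z * x] i, by
        fin_cases i
        exacts [one_mem _, P.zU, P.xU, mul_mem P.zU P.xU]⟩ : ↥P.U)) := by
      rintro ⟨y, hy⟩
      rcases hy with rfl | rfl | rfl | rfl
      exacts [⟨0, rfl⟩, ⟨1, rfl⟩, ⟨2, rfl⟩, ⟨3, rfl⟩]
    simpa using Nat.card_le_card_of_surjective _ hs4
  have hrange : 16 ≤ Nat.card Φ.range := by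
    have h1 := Φ.ker.card_mul_index
    rw [Subgroup.index_ker, P.card_B] at h1
    nlinarith
  -- the perpendicular hyperplane
  let K : AddSubgroup V :=
    { carrier := {w | bf w (π x) = 0}
      zero_mem' := bf_zero_left _
      add_mem' := fun {a b} ha hb => by
        show bf (a + b) (π x) = 0
        rw [bf_add_left, show bf a (π x) = 0 from ha, show bf b (π x) = 0 from hb, add_zero]
      neg_mem' := fun {a} ha => by
        show bf (-a) (π x) = 0
        rw [neg_eq_of_add_eq_zero_left (V_add_self a)]; exact ha }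
  have hmemK : ∀ w, w ∈ K ↔ bf w (π x) = 0 := fun w => Iff.rfl
  have hKcard : Nat.card ↥K ≤ 32 := by
    have hidx : K.index = 2 := by
      refine AddSubgroup.index_eq_two_iff.mpr ⟨π s, fun w => ?_⟩
      rcases F2_cases (bf w (π x)) with e | e
      · refine Or.inr ⟨e, fun h' => ?_⟩
        rw [hmemK, bf_add_left, e, hsp] at h'
        exact one_ne_zero ((zero_add (1 : F2)).symm.trans h')
      · refine Or.inl ⟨by rw [hmemK, bf_add_left, e, hsp]; decide, fun h' => ?_⟩
        rw [hmemK, e] at h'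
        exact one_ne_zero h'
    have h1 := K.card_mul_index
    have hV : Nat.card V = 64 := by simp [Nat.card_eq_fintype_card]
    rw [hidx, hV] at h1
    omega
  by_contra hno
  push Not at hno
  -- two classes would need more room
  let F : ↥Φ.range × Bool → {w : V // bf w (π x) = 0} := fun r =>
    ⟨P.dl s (Classical.choose r.1.2 : ↥P.B) + (if r.2 then π x else 0), by
      rw [bf_add_left, P.dl_perp hs (P.mem_B.mp (Classical.choose r.1.2).2).1 (P.mem_B.mp (Classical.choose r.1.2).2).2,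
        zero_add]
      split_ifs
      · exact bf_self _
      · exact bf_zero_left _⟩
  have hFc : ∀ r : ↥Φ.range × Bool, Eqp (π x) (P.dl s (Classical.choose r.1.2 : ↥P.B)) (F r).1 := by
    rintro ⟨r, b⟩
    cases b
    · exact Or.inl (by simp [F])
    · exact Or.inr (by simp [F])
  have hFinj : Function.Injective F := by
    rintro ⟨r, b⟩ ⟨r', b'⟩ e
    have e1 := Classical.choose_spec r.2
    have e2 := Classical.choose_spec r'.2
    have hr : r = r' := by
      refine Subtype.ext ?_
      rw [← e1, ← e2]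
      refine congrArg Multiplicative.ofAdd (hmk.mpr ?_)
      have c1 := hFc (r, b)
      rw [e] at c1
      exact c1.trans (hFc (r', b')).symm
    subst hr
    have e' := congrArg Subtype.val e
    cases b <;> cases b' <;> simp [F] at e' <;> first | rfl | exact absurd e' P.p_ne | exact absurd e'.symm P.p_ne
  have hvF : ∀ r, F r ≠ ⟨v, hv⟩ := by
    intro r e
    have hb := P.mem_B.mp (Classical.choose r.1.2).2
    have c1 := hFc r
    rw [e] at c1
    exact hno _ hb.1 hb.2 c1.symm
  have hlt : Nat.card (↥Φ.range × Bool) < Nat.card {w : V // bf w (π x) = 0} := by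
    haveI := Fintype.ofFinite (↥Φ.range × Bool)
    rw [Nat.card_eq_fintype_card, Nat.card_eq_fintype_card]
    refine Fintype.card_lt_of_injective_of_notMem F hFinj (b := ⟨v, hv⟩) ?_
    rintro ⟨r, e⟩
    exact hvF r e
  have hKK : Nat.card {w : V // bf w (π x) = 0} = Nat.card ↥K := rfl
  rw [Nat.card_prod, Nat.card_eq_fintype_card (α := Bool), Fintype.card_bool] at hlt
  omega

/-- Elements with the same part differ by the four group. -/
theorem dl_cong (hs : s ∈ Q) (hsp : bf (π s) (π x) = 1) {b b' : G} (hb : b ∈ Q') (hbz : b * z = z * b) (hb' : b' ∈ Q')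
    (hbz' : b' * z = z * b') (h : Eqp (π x) (P.dl s b) (P.dl s b')) : ∃ u ∈ P.U, b' = b * u := by
  refine ⟨b⁻¹ * b', ?_, by group⟩
  refine P.dl_inj hs hsp (mul_mem (inv_mem hb) hb') (Commute.mul_left (Commute.inv_left hbz) hbz') ?_
  have h1 := P.dl_mul hs hb hbz (mul_mem (inv_mem hb) hb') (Commute.mul_left (Commute.inv_left hbz) hbz')
  rw [show b * (b⁻¹ * b') = b' by group] at h1
  have h2 := ((h1.trans h.symm).add (Eqp.refl (π x) (P.dl s b)))
  rw [V_add_self, add_comm (P.dl s b) (P.dl s (b⁻¹ * b')), add_assoc, V_add_self, add_zero] at h2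
  exact h2.symm

end Pr

end CfsgLib.SuzType
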