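import Cfsg.Agent.Lib.FiniteForms.Standard
import Cfsg.Agent.Lib.OrthOrderBase
import Cfsg.Agent.Lib.SpinorMatrix
import Cfsg.Agent.Lib.OmegaSimple

/-!
The elliptic quadratic space of dimension six over two elements, and its derived orthogonal group.
-/

set_option autoImplicit false

namespace CfsgLib.SuzType

open Matrix QuadraticMap Module CfsgLib.WittExtension CfsgLib.SpinorNorm
  CfsgLib.SpinorMatrix

/-- Two elements. -/
abbrev F2 := ZMod 2

/-- Six coordinates. -/
abbrev V := (Fin 2 ⊕ Fin 2) ⊕ Fin 2 → F2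

theorem F2_cases : ∀ a : F2, a = 0 ∨ a = 1 := by decide

theorem V_add_self (v : V) : v + v = 0 := funext fun i => (show ∀ a : F2, a + a = 0 by decide) (v i)

/-- The form, as a quadratic map. -/
def qf : QuadraticForm F2 V :=
  QuadraticMap.ofPolar (Cfsg.quadFormMinus 2 F2 1 1)
    (fun a x => by
      rcases F2_cases a with rfl | rfl
      · simp [Cfsg.quadFormMinus]
      · simp)
    (fun x x' y => by simp only [CfsgLib.FiniteForms.polar_minus, add_dotProduct])
    (fun a x y => by simp only [CfsgLib.FiniteForms.polar_minus, smul_dotProduct, smul_eq_mul])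

theorem qf_apply (v : V) : qf v = Cfsg.quadFormMinus 2 F2 1 1 v := rfl

theorem qf_nondeg : (polarBilin qf).Nondegenerate := by
  have hp : ∀ u v : V, polarBilin qf u v = u ⬝ᵥ (CfsgLib.FiniteForms.ellMat 2 (1 : F2) 1 *ᵥ v) := fun u v =>
    CfsgLib.FiniteForms.polar_minus 2 1 1 u v
  have hdet : (CfsgLib.FiniteForms.ellMat 2 (1 : F2) 1).det ≠ 0 := by
    rw [CfsgLib.FiniteForms.det_ellMat]; decide
  constructor
  · intro u h
    refine Matrix.eq_zero_of_vecMul_eq_zero hdet (funext fun i => ?_)
    have := h (Pi.single i 1)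
    rwa [hp, Matrix.dotProduct_mulVec, dotProduct_single, mul_one] at this
  · intro v h
    refine Matrix.eq_zero_of_mulVec_eq_zero hdet (funext fun i => ?_)
    have := h (Pi.single i 1)
    rwa [hp, single_dotProduct, one_mul] at this

theorem finrank_V : finrank F2 V = 6 := by rw [Module.finrank_pi]; rfl

/-- The orthogonal group. -/
abbrev O6 := ↥(quadIso qf)

/-- The derived orthogonal group. -/
abbrev Om : Subgroup O6 := commutator O6

theorem closure_refl6 : Subgroup.closure (Refl qf) = ⊤ :=
  closure_refl qf qf_nondeg (Or.inr (by rw [finrank_V]; norm_num))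

theorem card_O6 : Nat.card O6 = 51840 := by
  rw [← CfsgLib.OrthOrder.card_isometryGroup qf (Cfsg.quadFormMinus 2 F2 1 1) (LinearEquiv.refl F2 V) fun w => rfl]
  rw [show Nat.card (Cfsg.isometryGroup F2 (Cfsg.quadFormMinus 2 F2 1 1)) = _ from
    CfsgLib.OrthOrder.card_O_minus 3 (by norm_num) (1 : F2) 1 (by decide), ZMod.card]
  decide

theorem finite_O6 : Finite O6 := Nat.finite_of_card_ne_zero (by rw [card_O6]; norm_num)

theorem card_O6plus :
    Nat.card (Cfsg.isometryGroup F2 (Cfsg.quadFormPlus 3 F2)) = 40320 := by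
  rw [CfsgLib.OrthOrder.card_O_plus 3 (by norm_num), ZMod.card]
  decide

theorem index_Om : Om.index = 2 :=
  index_commutator_two qf (by decide) qf_nondeg (by rw [finrank_V]; norm_num) closure_refl6

theorem card_Om : Nat.card Om = 25920 := by
  have h := Om.card_mul_index
  rw [index_Om, card_O6] at h
  omega

theorem card_Omega : Nat.card ↥(Cfsg.Omega F2 (Cfsg.quadFormMinus 2 F2 1 1)) = 25920 := by
  have h := (Cfsg.Omega F2 ⇑qf).card_mul_index
  rw [omega_index_two qf (by decide) (by simp) qf_nondeg (Or.inr (by simp))] at h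
  have hc : Nat.card ↥(Cfsg.isometryGroup F2 ⇑qf) = 51840 := by
    rw [CfsgLib.OrthOrder.card_isometryGroup qf ⇑qf (LinearEquiv.refl F2 V) fun w => rfl, card_O6]
  rw [hc] at h
  show Nat.card ↥(Cfsg.Omega F2 ⇑qf) = 25920
  omega

/-- The derived group is perfect. -/
theorem Om_perfect : ⁅Om, Om⁆ = Om := by
  have h := CfsgLib.OmegaSimple.commutator_eq qf qf_nondeg (by rw [finrank_V]; norm_num)
  show ⁅commutator O6, commutator O6⁆ = commutator O6
  rw [h]
  exact CfsgLib.OmegaSimple.perfect qf qf_nondeg (by rw [finrank_V]; norm_num)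

end CfsgLib.SuzType
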